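import Cfsg.Agent.H769.OZ.SpCls
import Cfsg.Agent.H604.OZ.Basic
import Cfsg.Agent.H277.ClsPsp
import Cfsg.Agent.H332.PQ.PspData

/-!
# `PSp₄(q)`: elements of order divisible by the characteristic, the torus (helper769, S4842)

* `not_dvd_st` : `q ^ 4` does not divide the degree of a character vanishing on exactly one class;
* `T_comm` : the torus is abelian; `card_X` : the order of the root groups;
* `n_mem_Li`.
-/

set_option autoImplicit false
set_option linter.unusedSectionVars false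

namespace Cfsg.Agent.H769.OZ

open Cfsg Cfsg.Agent.ChevalleyStructure.CoxeterGeom Cfsg.Agent.Tits.Roots Cfsg.Agent.Nodes.TypeC
open Cfsg.Agent.Nodes Cfsg.Agent.Nodes.Comb Cfsg.Agent.Nodes.Reps Cfsg.Agent.Nodes.WittRoot Cfsg.Agent.Nodes.BNOf
open Cfsg.Agent.Nodes.WittRGD Cfsg.Agent.Nodes.WittAll
open Cfsg.Agent.TitsThree Cfsg.Agent.TitsThree.Siegel Cfsg.Agent.TitsThree.WittFrame
  Cfsg.Agent.TitsThree.WittWeyl Cfsg.Agent.TitsThree.FrameCN Cfsg.Agent.TitsThree.SpIdent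
open Cfsg.Agent.H985.VZ Cfsg.Agent.ClassicalGeometry Cfsg.Agent.H604.OZ

variable {F : Type*} [Field F]

/-- `a` on `e₀`, a transvection on `⟨e₁, f₁⟩` -/
def tU (a c : F) (ha : a ≠ 0) : V4 F ≃ₗ[F] V4 F where
  toFun v := mk4 (a⁻¹ * v (Sum.inl 0)) (v (Sum.inl 1)) (a * v (Sum.inr 0)) (v (Sum.inr 1) + c * v (Sum.inl 1))
  invFun w := mk4 (a * w (Sum.inl 0)) (w (Sum.inl 1)) (a⁻¹ * w (Sum.inr 0)) (w (Sum.inr 1) - c * w (Sum.inl 1))
  map_add' v w := by apply ext4 <;> simp <;> ring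
  map_smul' c v := by apply ext4 <;> simp <;> ring
  left_inv v := by
    apply ext4 <;> simp only [mk4_l0, mk4_l1, mk4_r0, mk4_r1] <;> field_simp <;> ring
  right_inv v := by
    apply ext4 <;> simp only [mk4_l0, mk4_l1, mk4_r0, mk4_r1] <;> field_simp <;> ring

theorem tU_apply (a c : F) (ha : a ≠ 0) (v : V4 F) : tU a c ha v =
    mk4 (a⁻¹ * v (Sum.inl 0)) (v (Sum.inl 1)) (a * v (Sum.inr 0)) (v (Sum.inr 1) + c * v (Sum.inl 1)) := rfl

theorem tU_mem (a c : F) (ha : a ≠ 0) : tU a c ha ∈ isos (form 2 F) := by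
  intro v w
  rw [form4, form4, tU_apply, tU_apply]
  simp only [mk4_l0, mk4_l1, mk4_r0, mk4_r1]
  field_simp
  ring

/-- in `PSp₄` -/
noncomputable def gU (a c : F) (ha : a ≠ 0) : PSp 2 F := toPSp ⟨tU a c ha, tU_mem a c ha⟩

theorem tU_mul (a c a' c' : F) (ha : a ≠ 0) (ha' : a' ≠ 0) :
    tU a c ha * tU a' c' ha' = tU (a * a') (c + c') (mul_ne_zero ha ha') := by
  ext1 v
  change tU a c ha (tU a' c' ha' v) = _
  rw [tU_apply, tU_apply, tU_apply]
  apply ext4 <;> simp only [mk4_l0, mk4_l1, mk4_r0, mk4_r1] <;> (try rw [mul_inv]) <;> ring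

theorem gU_pow (a c : F) (ha : a ≠ 0) (m : ℕ) : gU a c ha ^ m = gU (a ^ m) (m * c) (pow_ne_zero m ha) := by
  have key : ∀ m : ℕ, tU a c ha ^ m = tU (a ^ m) (m * c) (pow_ne_zero m ha) := by
    intro m
    induction m with
    | zero =>
      ext1 v
      rw [tU_apply]
      change v = _
      apply ext4 <;> simp
    | succ m ih =>
      rw [pow_succ, ih, tU_mul]
      congr 1
      · rw [pow_succ]
      · rw [Nat.cast_succ]
        ring
  unfold gU
  rw [← map_pow]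
  congr 1
  exact Subtype.ext (key m)

theorem gU_eq_one_iff (a c : F) (ha : a ≠ 0) : gU a c ha = 1 ↔ a = 1 ∧ c = 0 := by
  constructor
  · intro h
    obtain ⟨x, -, hx⟩ := exists_smul_of_toPSp_eq_one h
    have h1 := congrFun (hx (mk4 0 0 0 1)) (Sum.inr 1)
    have h2 := congrFun (hx (mk4 0 0 1 0)) (Sum.inr 0)
    have h3 := congrFun (hx (mk4 0 1 0 0)) (Sum.inr 1)
    change (tU a c ha) _ _ = _ at h1
    change (tU a c ha) _ _ = _ at h2
    change (tU a c ha) _ _ = _ at h3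
    rw [tU_apply] at h1 h2 h3
    simp at h1 h2 h3
    exact ⟨by rw [h2, ← h1], h3⟩
  · rintro ⟨rfl, rfl⟩
    have e : (⟨tU (1 : F) 0 ha, tU_mem 1 0 ha⟩ : isos (form 2 F)) = 1 := by
      apply Subtype.ext
      ext1 v
      change tU (1 : F) 0 ha v = v
      rw [tU_apply]
      apply ext4 <;> simp
    unfold gU
    rw [e, map_one]

theorem orderOf_gU_one {p : ℕ} [hp : Fact p.Prime] [CharP F p] : orderOf (gU (1 : F) 1 one_ne_zero) = p := by
  refine orderOf_eq_prime ?_ ?_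
  · rw [gU_pow, gU_eq_one_iff]
    exact ⟨one_pow _, by rw [CharP.cast_eq_zero, zero_mul]⟩
  · rw [Ne, gU_eq_one_iff]
    exact fun h => one_ne_zero h.2

theorem dvd_orderOf_gU {p : ℕ} [hp : Fact p.Prime] [CharP F p] {a : F} (ha : a ≠ 0) : p ∣ orderOf (gU a 1 ha) := by
  have h := pow_orderOf_eq_one (gU a 1 ha)
  rw [gU_pow, gU_eq_one_iff] at h
  have h2 := h.2
  rw [mul_one] at h2
  exact (CharP.cast_eq_zero_iff F p _).1 h2

theorem orderOf_gU_ne {p : ℕ} [hp : Fact p.Prime] [CharP F p] {a : F} (ha : a ≠ 0) (ha1 : a ≠ 1) :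
    orderOf (gU a 1 ha) ≠ p := by
  intro h
  have h1 := pow_orderOf_eq_one (gU a 1 ha)
  rw [gU_pow, gU_eq_one_iff, h] at h1
  apply ha1
  have h2 : (a - 1) ^ p = 0 := by
    rw [sub_pow_char, one_pow, h1.1, sub_self]
  exact sub_eq_zero.1 (pow_eq_zero_iff (Nat.Prime.ne_zero hp.out) |>.1 h2)

/-- the order of `PSp₄(q)` -/
theorem card_psp4 [Fintype F] {q : ℕ} (hF : Fintype.card F = q) :
    Nat.gcd 2 (q - 1) * Nat.card (PSp 2 F) = q ^ 4 * ((q ^ 2 - 1) * (q ^ 4 - 1)) := by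
  rw [H277.ClsPsp.card_psp hF (by norm_num), Finset.prod_range_succ, Finset.prod_range_one]
  norm_num

theorem pow_card {p a : ℕ} [hp : Fact p.Prime] [Fintype F] (hF : Fintype.card F = p ^ a) (ha : 0 < a) :
    p ^ (4 * a) ∣ Nat.card (PSp 2 F) ∧ ¬ p ^ (4 * a + 1) ∣ Nat.card (PSp 2 F) := by
  have h1 := card_psp4 hF
  have hq : 1 < p ^ a := Nat.one_lt_pow ha.ne' hp.out.one_lt
  have hpq : p ∣ p ^ a := dvd_pow_self _ ha.ne'
  have hco : ∀ m : ℕ, 0 < m → Nat.Coprime p ((p ^ a) ^ m - 1) := by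
    intro m hm
    rw [Nat.Prime.coprime_iff_not_dvd hp.out]
    intro h
    have h2 : p ∣ (p ^ a) ^ m := dvd_pow hpq hm.ne'
    have h3 : 1 ≤ (p ^ a) ^ m := Nat.one_le_iff_ne_zero.2 (pow_ne_zero _ (by omega))
    have h4 := (Nat.dvd_sub h2 h)
    rw [Nat.sub_sub_self h3] at h4
    exact hp.out.one_lt.ne' (Nat.dvd_one.1 h4)
  have hc1 := hco 2 (by norm_num)
  have hc2 := hco 4 (by norm_num)
  have hc : Nat.Coprime p (((p ^ a) ^ 2 - 1) * ((p ^ a) ^ 4 - 1)) := Nat.Coprime.mul_right hc1 hc2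
  have hg : Nat.Coprime p (Nat.gcd 2 (p ^ a - 1)) := by
    have := hco 1 one_pos
    rw [pow_one] at this
    exact Nat.Coprime.coprime_dvd_right (Nat.gcd_dvd_right _ _) this
  have e4 : (p ^ a) ^ 4 = p ^ (4 * a) := by rw [← pow_mul, mul_comm a 4]
  have h1 := h1.trans (congrArg (· * (((p ^ a) ^ 2 - 1) * ((p ^ a) ^ 4 - 1))) e4)
  constructor
  · refine (Nat.Coprime.pow_left (4 * a) hg).dvd_of_dvd_mul_left ?_
    rw [h1]
    exact dvd_mul_right _ _
  · intro h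
    have h2 : p ^ (4 * a + 1) ∣ p ^ (4 * a) * (((p ^ a) ^ 2 - 1) * ((p ^ a) ^ 4 - 1)) := by
      rw [← h1]
      exact Dvd.dvd.mul_left h _
    rw [pow_succ] at h2
    have h3 := Nat.dvd_of_mul_dvd_mul_left (pow_pos hp.out.pos _) h2
    have h4 := Nat.Coprime.eq_one_of_dvd hc h3
    exact hp.out.one_lt.ne' h4

/-- **the degree is not divisible by `q ^ 4`** -/
theorem not_dvd_st {F : Type} [Field F] [Fintype F] (hq : 4 ≤ Fintype.card F) {χ : IrrCharacter (PSp 2 F)} {x : PSp 2 F}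
    (h : H732.VZ.One χ x) : ¬ Fintype.card F ^ 4 ∣ charDegree (χ : PSp 2 F → ℂ) := by
  classical
  obtain ⟨p, hp⟩ := CharP.exists F
  have hpp : Fact p.Prime := ⟨CharP.char_is_prime F p⟩
  obtain ⟨⟨a, ha⟩, -, hF⟩ := FiniteField.card F p
  simp only [PNat.mk_coe] at hF
  obtain ⟨h1, h2⟩ := pow_card (F := F) hF ha
  obtain ⟨b, hb0, hb1, -⟩ := exists_ne_three hq (0 : F) 1 1
  have h3 := not_dvd_deg' h hpp.out h1 h2 (g := gU (1 : F) 1 one_ne_zero) (g' := gU b 1 hb0)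
    (by rw [orderOf_gU_one (p := p)]) (dvd_orderOf_gU hb0)
    (by rw [orderOf_gU_one (p := p)]; exact (orderOf_gU_ne hb0 hb1).symm)
  rwa [hF, ← pow_mul, mul_comm a 4]

/-! ### The torus and the root groups -/

theorem T_comm (m : ℕ) : ∀ s ∈ WittModel.T (KInstSp.model m F), ∀ t ∈ WittModel.T (KInstSp.model m F),
    s * t = t * s := by
  rintro _ ⟨s, hs, rfl⟩ _ ⟨t, ht, rfl⟩
  rw [← map_mul, ← map_mul]
  congr 1
  exact Subtype.ext (H332.PQ.Psp.tor_comm (Subgroup.mem_subgroupOf.1 hs) (Subgroup.mem_subgroupOf.1 ht))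

theorem n_mem_Li {m : ℕ} {p : ℕ} (hA : AmbT (frame m F) p (KInstSp.model m F).I) (i : Fin m) :
    (KInstSp.model m F).φ ⟨nn (frame m F) (adm 1) i, WittAll.nn_mem hA (adm 1) i⟩ ∈
      Li (WittModel.X (KInstSp.model m F)) i := WittModel.nw_mem_sup (KInstSp.model m F) WittU.amb_Sp (adm 1) i

end Cfsg.Agent.H769.OZ
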