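import Cfsg.Agent.H477.OZ.Geo2
import Cfsg.Agent.H366.OZ.SpFront
import Cfsg.Agent.H477.HC.Arith
import Cfsg.Agent.H769.OZ.SpSt

/-!
# `PSp₄(q)`, `q ≥ 4`: the odd prime divisors of `q² + 1` (helper769, S4842)

* `exists_two` : two classes of elements of order divisible by `r`;
* `not_dvd_cox` : `q² + 1 ∤ 8 χ(1)` for a character vanishing on exactly one class.
-/

set_option autoImplicit false

namespace Cfsg.Agent.H769.OZ

open Cfsg Cfsg.Agent.Characters Cfsg.Agent.H604.OZ Cfsg.Agent.H477.OZ Cfsg.Agent.H477.HC Module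

theorem order_four {q r : ℕ} (hr : r.Prime) (hr2 : r ≠ 2) (hd : r ∣ q ^ 2 + 1) : orderOf ((q : ℕ) : ZMod r) = 4 := by
  have := Fact.mk hr
  have h1 : ((q : ℕ) : ZMod r) ^ 2 = -1 := by
    have h2 : ((q ^ 2 + 1 : ℕ) : ZMod r) = 0 := (ZMod.natCast_eq_zero_iff _ _).2 hd
    push_cast at h2
    exact eq_neg_of_add_eq_zero_left h2
  have hne : (-1 : ZMod r) ≠ 1 := by
    have : Fact (2 < r) := ⟨lt_of_le_of_ne hr.two_le (Ne.symm hr2)⟩
    exact ZMod.neg_one_ne_one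
  have h3 : orderOf ((q : ℕ) : ZMod r) = 2 ^ (1 + 1) := by
    apply orderOf_eq_prime_pow
    · rw [pow_one, h1]
      exact hne
    · rw [show 2 ^ (1 + 1) = 2 * 2 by norm_num, pow_mul, h1]
      norm_num
  rw [h3]
  norm_num

theorem dvd_orderOf_map {G S : Type*} [Group G] [Group S] {π : G →* S} {r : ℕ} (hr : r.Prime)
    (hk : ¬ r ∣ Nat.card π.ker) {g : G} (hg : r ∣ orderOf g) : r ∣ orderOf (π g) := by
  have h1 : g ^ orderOf (π g) ∈ π.ker := by
    rw [MonoidHom.mem_ker, map_pow, pow_orderOf_eq_one]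
  have h2 : (g ^ orderOf (π g)) ^ Nat.card π.ker = 1 := by
    have := congrArg Subtype.val (pow_card_eq_one' (x := (⟨_, h1⟩ : π.ker)))
    exact this
  rw [← pow_mul] at h2
  rcases hr.dvd_mul.1 (hg.trans (orderOf_dvd_of_pow_eq_one h2)) with h3 | h3
  · exact h3
  · exact absurd h3 hk

/-- **two classes** -/
theorem exists_two {F : Type} [Field F] [Fintype F] (hq : 4 ≤ Fintype.card F) {r : ℕ} (hr : r.Prime) (hr2 : r ≠ 2)
    (hd : r ∣ Fintype.card F ^ 2 + 1) : ∃ g g' : PSp 2 F, r ∣ orderOf g ∧ r ∣ orderOf g' ∧ ¬ IsConj g g' := by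
  have hrf := Fact.mk hr
  obtain ⟨π, hπ, hker, hkc⟩ := H366.OZ.exists_pi (MulEquiv.refl (PSp 2 F)) (by norm_num)
  set q := Fintype.card F with hqdef
  have hqN : Nat.card F = q := Nat.card_eq_fintype_card
  have hfin : Finite (CForm.spF F 2).iso := by
    have : Finite ((Fin 2 ⊕ Fin 2 → F) ≃ₗ[F] (Fin 2 ⊕ Fin 2 → F)) :=
      Finite.of_injective (fun e => (e : (Fin 2 ⊕ Fin 2 → F) → (Fin 2 ⊕ Fin 2 → F)))
        (fun a b hab => LinearEquiv.ext fun v => congrFun hab v)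
    exact Subtype.finite
  have hord := order_four hr hr2 hd
  have hrq : ¬ r ∣ q := by
    intro h1
    have h2 : r ∣ q ^ 2 := dvd_pow h1 two_ne_zero
    exact hr.one_lt.ne' (Nat.dvd_one.1 ((Nat.dvd_add_right h2).1 hd))
  have hkle : Nat.card π.ker ≤ 2 := by
    rw [hkc]
    exact Nat.le_of_dvd two_pos (Nat.gcd_dvd_left _ _)
  have hkr : ¬ r ∣ Nat.card π.ker := by
    intro h1
    have h2 := Nat.le_of_dvd Nat.card_pos h1
    have := hr.two_le
    omega
  have hnum : Nat.card π.ker * (2 * 2 + 1) < q ^ 2 + 1 := by nlinarith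
  have hfr : finrank F (Fin 2 ⊕ Fin 2 → F) = 4 := by
    rw [Module.finrank_fintype_fun_eq_card, Fintype.card_sum, Fintype.card_fin]
  have hordN : orderOf ((Nat.card F : ℕ) : ZMod r) = 2 * 2 := by rw [hqN]; exact hord
  have hdG : r ∣ Nat.card (CForm.spF F 2).iso := by
    rw [card_spF, hqN]
    refine Dvd.dvd.mul_left ?_ _
    have h1 : r ∣ q ^ (2 * (1 + 1)) - 1 := by
      have h2 : ((q ^ (2 * (1 + 1)) : ℕ) : ZMod r) = ((1 : ℕ) : ZMod r) := by
        have h5 := pow_orderOf_eq_one ((q : ℕ) : ZMod r)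
        rw [hord] at h5
        push_cast
        exact h5
      have h3 := (ZMod.natCast_eq_natCast_iff _ _ _).1 h2
      exact (Nat.modEq_iff_dvd' (Nat.one_le_pow _ _ (by omega))).1 h3.symm
    exact h1.trans (Finset.dvd_prod_of_mem _ (Finset.mem_range.2 (by norm_num : 1 < 2)))
  let R : Sylow r (CForm.spF F 2).iso := default
  obtain ⟨y, hyR, h, hRT, hC, hcyc⟩ := exists_big (F := CForm.spF F 2) (r := r) (by rw [hqN]; exact hrq)
    (by rw [hfr, hordN]; norm_num) R hdG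
  have hσ : ∀ a, (CForm.spF F 2).σ a = a := fun a => by simp
  have hQ0 : ∀ v, (CForm.spF F 2).Q v = 0 := fun v => by simp
  obtain ⟨t, ht, hrt, hnc⟩ := h.two_classes hσ (j := 2) (by norm_num) hordN (fun a _ _ u _ => by rw [hQ0, hQ0])
    hker hkr (by rw [hqN]; exact hnum) (k₀ := 1) (one_mem _)
  refine ⟨π y, π t, dvd_orderOf_map hr hkr (by rw [h.orderOf_eq]), dvd_orderOf_map hr hkr hrt, fun hc => hnc ?_⟩
  rw [mul_one, mul_one]
  exact conj_of_isConj hπ hc

/-- **the degree is not divisible by the Coxeter number part** -/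
theorem not_dvd_cox {F : Type} [Field F] [Fintype F] (hq : 4 ≤ Fintype.card F) {χ : IrrCharacter (PSp 2 F)}
    {x : PSp 2 F} (h : H732.VZ.One χ x) : ¬ Fintype.card F ^ 2 + 1 ∣ 8 * charDegree (χ : PSp 2 F → ℂ) := by
  intro hdv
  have hcard := card_psp4 (F := F) rfl
  set q := Fintype.card F with hqdef
  -- an odd prime divisor
  obtain ⟨r, hr, hr2, hd⟩ : ∃ r, r.Prime ∧ r ≠ 2 ∧ r ∣ q ^ 2 + 1 := by
    by_contra hcon
    push Not at hcon
    have h1 : ∀ r, r.Prime → r ∣ q ^ 2 + 1 → r = 2 := by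
      intro r hr hd
      by_contra h2
      exact hcon r hr h2 hd
    have h2 := Nat.eq_prime_pow_of_unique_prime_dvd (n := q ^ 2 + 1) (p := 2) (by positivity) (fun {r} hr hd => h1 r hr hd)
    have h4 : ¬ 4 ∣ q ^ 2 + 1 := by
      intro h4
      have h5 : (q ^ 2 + 1) % 4 = 0 := Nat.mod_eq_zero_of_dvd h4
      have h6 : q % 4 = 0 ∨ q % 4 = 1 ∨ q % 4 = 2 ∨ q % 4 = 3 := by omega
      rcases h6 with h6 | h6 | h6 | h6 <;> simp [Nat.add_mod, Nat.pow_mod, h6] at h5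
    have h5 : (q ^ 2 + 1).primeFactorsList.length ≤ 1 := by
      by_contra h6
      apply h4
      rw [h2]
      exact pow_dvd_pow 2 (by omega : 2 ≤ _)
    have h6 : q ^ 2 + 1 ≤ 2 ^ 1 := by
      rw [h2]
      exact Nat.pow_le_pow_right two_pos h5
    nlinarith
  have hrq : Nat.Coprime r q := by
    rw [Nat.Prime.coprime_iff_not_dvd hr]
    intro h1
    exact hr.one_lt.ne' (Nat.dvd_one.1 ((Nat.dvd_add_right (dvd_pow h1 two_ne_zero)).1 hd))
  have hr2' : Nat.Coprime r 2 := (Nat.coprime_primes hr Nat.prime_two).2 hr2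
  have hq1 : 1 ≤ q ^ 2 := Nat.one_le_pow _ _ (by omega)
  have hrq1 : Nat.Coprime r (q ^ 2 - 1) := by
    rw [Nat.Prime.coprime_iff_not_dvd hr]
    intro h1
    have h2 : r ∣ (q ^ 2 + 1) - (q ^ 2 - 1) := Nat.dvd_sub hd h1
    have h3 : (q ^ 2 + 1) - (q ^ 2 - 1) = 2 := by omega
    rw [h3] at h2
    exact hr2 ((Nat.prime_dvd_prime_iff_eq hr Nat.prime_two).1 h2)
  have hg : Nat.Coprime r (Nat.gcd 2 (q - 1)) := Nat.Coprime.coprime_dvd_right (Nat.gcd_dvd_left _ _) hr2'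
  have h4 : q ^ 4 - 1 = (q ^ 2 - 1) * (q ^ 2 + 1) := by
    have : q ^ 4 = (q ^ 2) ^ 2 := by ring
    rw [this, mul_comm, ← Nat.sq_sub_sq, one_pow]
  set n := (q ^ 2 + 1).factorization r with hn
  have hn1 : r ^ n ∣ q ^ 2 + 1 := Nat.ordProj_dvd _ _
  have hn2 : ¬ r ^ (n + 1) ∣ q ^ 2 + 1 := Nat.pow_succ_factorization_not_dvd (by positivity) hr
  have hp : ∀ m, r ^ m ∣ Nat.card (PSp 2 F) ↔ r ^ m ∣ q ^ 2 + 1 := by
    intro m
    constructor
    · intro h1
      have h2 : r ^ m ∣ q ^ 4 * ((q ^ 2 - 1) * (q ^ 4 - 1)) := by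
        rw [← hcard]
        exact Dvd.dvd.mul_left h1 _
      have h3 := (Nat.Coprime.pow m 4 hrq).dvd_of_dvd_mul_left h2
      have h5 := (Nat.Coprime.pow_left m hrq1).dvd_of_dvd_mul_left h3
      rw [h4] at h5
      exact (Nat.Coprime.pow_left m hrq1).dvd_of_dvd_mul_left h5
    · intro h1
      refine (Nat.Coprime.pow_left m hg).dvd_of_dvd_mul_left ?_
      rw [hcard, h4]
      exact (h1.mul_left _).mul_left _ |>.mul_left _
  obtain ⟨g, g', hg1, hg2, hg3⟩ := exists_two hq hr hr2 hd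
  refine not_dvd_deg h hr ((hp n).2 hn1) (fun h1 => hn2 ((hp (n + 1)).1 h1)) hg1 hg2 hg3 ?_
  have h8 : Nat.Coprime (r ^ n) 8 := by
    have := Nat.Coprime.pow n 3 hr2'
    norm_num at this
    exact this
  exact h8.dvd_of_dvd_mul_left (hn1.trans hdv)

end Cfsg.Agent.H769.OZ
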