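import Cfsg.Agent.H769.OZ.LeviLin
import Cfsg.Agent.H985.VZ.Defs

/-!
# Levi subgroups of the models on Witt frames and elliptic elements (helper769, S4842)

`M : Model Fr K` on a Witt frame of index `n` (type `C_n`), `J = {k}ᶜ`.

* `phi_mem_PJ_iff`, `phi_mem_LJ_iff` : membership in `P_J`, `L_J`;
* `VJ_le` : the elements of `V_J` come from `UR Fr k`;
* `free_of`, `ell_of` : the elements `Free J t`, `Ell J t` of helper985.
-/

set_option autoImplicit false
set_option linter.unusedSectionVars false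

namespace Cfsg.Agent.H769.OZ

open Cfsg.Agent.ChevalleyStructure.CoxeterGeom Cfsg.Agent.Tits.Roots Cfsg.Agent.Nodes.TypeC
open Cfsg.Agent.Nodes Cfsg.Agent.Nodes.Comb Cfsg.Agent.Nodes.Reps Cfsg.Agent.Nodes.WittRoot Cfsg.Agent.Nodes.BNOf
open Cfsg.Agent.Nodes.WittRGD Cfsg.Agent.Nodes.RGDLib Cfsg.Agent.Nodes.WittAll Cfsg.Agent.Nodes.StabComb
open Cfsg.Agent.Nodes.Bruhat Cfsg.Agent.Nodes.OppDec Cfsg.Agent.Nodes.LeviDec
open Cfsg.Agent.TitsThree Cfsg.Agent.TitsThree.Siegel Cfsg.Agent.TitsThree.WittFrame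
  Cfsg.Agent.TitsThree.WittWeyl Cfsg.Agent.TitsThree.FrameCN
open Cfsg.Agent.H985.VZ

/-! ### Decomposition of the space -/

section lin

variable {F : Type*} [Field F] {V : Type*} [AddCommGroup V] [Module F V] {H : HForm F V} {n : ℕ}
  {Fr : Frame H (Fin n)} {k : Fin n}

theorem h_sum (v : V) {s : Finset (Fin n)} (c : Fin n → F) (u : Fin n → V) :
    H.h (∑ i ∈ s, c i • u i) v = ∑ i ∈ s, c i * H.h (u i) v := by
  induction s using Finset.induction_on with
  | empty => simp [H.zero_left]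
  | insert j s hj ih => rw [Finset.sum_insert hj, Finset.sum_insert hj, H.add_left, H.smul_left, ih]

variable (Fr k) in
/-- the component in `E k s` -/
def cmp (s : Bool) (v : V) : V :=
  ∑ i ∈ Finset.Iic k, (if s then H.h v (Fr.b (i, false)) else H.ε⁻¹ * H.h v (Fr.b (i, true))) • Fr.b (i, s)

theorem cmp_mem (s : Bool) (v : V) : cmp Fr k s v ∈ E Fr k s :=
  Submodule.sum_mem _ fun i hi => Submodule.smul_mem _ _ (b_mem_E (Finset.mem_Iic.1 hi) s)

theorem h_cmp_same (s : Bool) (v : V) {j : Fin n} (hj : j ≤ k) : H.h (cmp Fr k s v) (Fr.b (j, s)) = 0 :=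
  E_le_Pp s (cmp_mem s v) j hj

theorem h_cmp_opp (s : Bool) (v : V) {j : Fin n} (hj : j ≤ k) :
    H.h (cmp Fr k s v) (Fr.b (j, !s)) = H.h v (Fr.b (j, !s)) := by
  rw [cmp, h_sum]
  have hne : ∀ i : Fin n, i ≠ j → H.h (Fr.b (i, s)) (Fr.b (j, !s)) = 0 := fun i hi => Fr.hb_of_ne hi
  rw [Finset.sum_eq_single j (fun i _ hi => by rw [hne i hi, mul_zero])
    (fun h => absurd (Finset.mem_Iic.2 hj) h)]
  rw [Fr.hb]
  cases s
  · simp only [Bool.false_eq_true, if_false, Bool.not_false, ne_eq, not_false_eq_true, and_self,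
      if_true]
    rw [mul_comm, ← mul_assoc, mul_inv_cancel₀ H.ε_ne, one_mul]
  · simp

/-- `v = e + f + m` -/
theorem exists_dec (Fr : Frame H (Fin n)) (k : Fin n) (v : V) : ∃ a ∈ E Fr k true, ∃ b ∈ E Fr k false,
    ∃ m : V, m ∈ Pp Fr k true ∧ m ∈ Pp Fr k false ∧ v = a + b + m := by
  refine ⟨cmp Fr k true v, cmp_mem _ _, cmp Fr k false v, cmp_mem _ _,
    v - cmp Fr k true v - cmp Fr k false v, ?_, ?_, by abel⟩
  · intro j hj
    rw [H.sub_left, H.sub_left, h_cmp_same _ _ hj]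
    have := h_cmp_opp (Fr := Fr) (k := k) false v hj
    rw [Bool.not_false] at this
    rw [this]
    ring
  · intro j hj
    rw [H.sub_left, H.sub_left, h_cmp_same _ _ hj]
    have := h_cmp_opp (Fr := Fr) (k := k) true v hj
    rw [Bool.not_true] at this
    rw [this]
    ring

theorem eq_cmp {s : Bool} {v : V} (hv : v ∈ E Fr k s) : v = cmp Fr k s v := by
  refine Submodule.span_induction (p := fun v _ => v = cmp Fr k s v) ?_ ?_ ?_ ?_ hv
  · rintro _ ⟨i, hi, rfl⟩
    unfold cmp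
    rw [Finset.sum_eq_single i]
    · rw [Fr.hb, Fr.hb]
      cases s
      · simp only [Bool.false_eq_true, if_false, ne_eq, Bool.false_eq_true, not_false_eq_true, and_self, if_true,
          inv_mul_cancel₀ H.ε_ne, one_smul]
      · simp
    · intro j _ hj
      rw [Fr.hb_of_ne (x := (i, s)) (y := (j, false)) (Ne.symm hj),
        Fr.hb_of_ne (x := (i, s)) (y := (j, true)) (Ne.symm hj)]
      simp
    · intro h
      exact absurd (Finset.mem_Iic.2 hi) h
  · unfold cmp
    simp [H.zero_left]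
  · intro x y _ _ hx hy
    have : cmp Fr k s (x + y) = cmp Fr k s x + cmp Fr k s y := by
      unfold cmp
      rw [← Finset.sum_add_distrib]
      refine Finset.sum_congr rfl fun i _ => ?_
      rw [← add_smul, H.add_left, H.add_left]
      cases s <;> simp [mul_add]
    rw [this, ← hx, ← hy]
  · intro c x _ hx
    have : cmp Fr k s (c • x) = c • cmp Fr k s x := by
      unfold cmp
      rw [Finset.smul_sum]
      refine Finset.sum_congr rfl fun i _ => ?_
      rw [smul_smul, H.smul_left, H.smul_left]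
      congr 1
      cases s
      · simp only [Bool.false_eq_true, if_false]
        ring
      · simp
    rw [this, ← hx]

theorem E_inf_Pp {s : Bool} {v : V} (hv : v ∈ E Fr k s) (hv' : v ∈ Pp Fr k (!s)) : v = 0 := by
  rw [eq_cmp hv]
  unfold cmp
  refine Finset.sum_eq_zero fun i hi => ?_
  have h1 := hv' i (Finset.mem_Iic.1 hi)
  cases s
  · rw [Bool.not_false] at h1
    simp only [Bool.false_eq_true, if_false]
    rw [h1, mul_zero, zero_smul]
  · rw [Bool.not_true] at h1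
    simp only [if_true]
    rw [h1, zero_smul]

/-- the unipotent radical meets the opposite parabolic subgroup trivially -/
theorem UR_inf {g : V ≃ₗ[F] V} (hi : H.IsIso g) (hg : g ∈ UR Fr k) (h : g ∈ StE (E Fr k false)) : g = 1 := by
  have h1 : ∀ w ∈ E Fr k false, g w = w := by
    intro w hw
    have h2 : g w - w ∈ E Fr k false := sub_mem ((h w).2 hw) hw
    exact sub_eq_zero.1 (E_inf_Pp h2 (hg.1 w))
  ext v
  obtain ⟨a, ha, b, hb, m, hm, hm', rfl⟩ := exists_dec Fr k v
  have h2 : g m = m := by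
    have h3 : g m - m ∈ E Fr k true := hg.2.1 m hm
    refine sub_eq_zero.1 (E_inf_Pp h3 ?_)
    rw [Bool.not_true, mem_Pp_iff]
    intro w hw
    rw [H.sub_left, Pp_E hm' hw, sub_zero]
    calc H.h (g m) w = H.h (g m) (g w) := by rw [h1 w hw]
      _ = H.h m w := hi _ _
      _ = 0 := Pp_E hm' hw
  change g (a + b + m) = a + b + m
  rw [map_add, map_add, hg.2.2 a ha, h1 b hb, h2]

theorem UR_conj {g t : V ≃ₗ[F] V} (hi : H.IsIso t) (ht : t ∈ StE (E Fr k true)) (hg : g ∈ UR Fr k) :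
    t * g * t⁻¹ ∈ UR Fr k := by
  have hP := StE_Pp hi ht
  have e : ∀ v, (t * g * t⁻¹) v - v = t (g (t⁻¹ v) - t⁻¹ v) := fun v => by
    rw [map_sub, apply_inv_self]
    rfl
  refine ⟨fun v => ?_, fun v hv => ?_, fun v hv => ?_⟩
  · rw [e, hP]
    exact hg.1 _
  · rw [e, ht]
    exact hg.2.1 _ ((hP _).1 (by rwa [apply_inv_self]))
  · rw [← sub_eq_zero, e, hg.2.2 _ ((ht _).1 (by rwa [apply_inv_self])), sub_self, map_zero]

open Polynomial in
theorem commute_aeval {τ N : Module.End F V} (h : Commute N τ) (f : F[X]) : Commute N (aeval τ f) := by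
  induction f using Polynomial.induction_on' with
  | add p q hp hq => rw [map_add]; exact hp.add_right hq
  | monomial k a =>
    rw [aeval_monomial]
    exact (Algebra.commute_algebraMap_right a N).mul_right (h.pow_right k)

open Polynomial in
theorem aeval_mem {τ : Module.End F V} {D : Submodule F V} (h : ∀ w ∈ D, τ w ∈ D) (f : F[X]) :
    ∀ w ∈ D, aeval τ f w ∈ D := by
  have hp : ∀ (m : ℕ) (v : V), v ∈ D → (τ ^ m) v ∈ D := by
    intro m
    induction m with
    | zero => intro v hv; exact hv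
    | succ m ih =>
      intro v hv
      rw [pow_succ]
      exact ih _ (h v hv)
  induction f using Polynomial.induction_on' with
  | add p q hp hq =>
    intro w hw
    rw [map_add]
    exact add_mem (hp w hw) (hq w hw)
  | monomial k a =>
    intro w hw
    rw [aeval_monomial]
    exact Submodule.smul_mem _ _ (hp k w hw)

theorem exists_of_inj [Finite V] {P : Module.End F V} {D : Submodule F V} (h : ∀ w ∈ D, P w ∈ D)
    (h0 : ∀ w ∈ D, P w = 0 → w = 0) : ∀ w ∈ D, ∃ w' ∈ D, P w' = w := by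
  have hi : Function.Injective (fun w : D => (⟨P w.1, h w.1 w.2⟩ : D)) := by
    rintro ⟨a, ha⟩ ⟨b, hb⟩ e
    have e' : P a = P b := congrArg Subtype.val e
    apply Subtype.ext
    change a = b
    rw [← sub_eq_zero]
    exact h0 _ (sub_mem ha hb) (by rw [map_sub, e', sub_self])
  intro w hw
  obtain ⟨⟨w', hw'⟩, e⟩ := (Finite.injective_iff_surjective.1 hi) ⟨w, hw⟩
  exact ⟨w', hw', congrArg Subtype.val e⟩

end lin

/-! ### The group -/

section group

variable {F : Type*} [Field F] {V : Type*} [AddCommGroup V] [Module F V] {H : HForm F V} {n : ℕ}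
  {Fr : Frame H (Fin n)} {K : Type*} [Group K] (M : Model Fr K) {k : Fin n}

theorem exists_of_ker {g : M.I} (hg : M.φ g = 1) (v : V) : ∃ a : F, g.1 v = a • v := M.ker v g hg

theorem ker_StE {g : M.I} (hg : M.φ g = 1) (D : Submodule F V) : g.1 ∈ StE D := by
  have key : ∀ g : M.I, M.φ g = 1 → ∀ v ∈ D, g.1 v ∈ D := by
    intro g hg v hv
    obtain ⟨a, ha⟩ := exists_of_ker M hg v
    rw [ha]
    exact Submodule.smul_mem _ _ hv
  intro v
  refine ⟨fun h => ?_, key g hg v⟩
  have := key g⁻¹ (by rw [map_inv, hg, inv_one]) _ h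
  have e : (g⁻¹ : M.I).1 (g.1 v) = v := inv_apply_self g.1 v
  rwa [e] at this

/-- the image of the stabiliser of `D` -/
def StK (D : Submodule F V) : Subgroup K := ((StE D).subgroupOf M.I).map M.φ

theorem phi_mem_StK {D : Submodule F V} {g : M.I} : M.φ g ∈ StK M D ↔ g.1 ∈ StE D := by
  constructor
  · rintro ⟨g', hg', e⟩
    have h1 : M.φ (g * g'⁻¹) = 1 := by rw [map_mul, map_inv, e, mul_inv_cancel]
    have h2 := mul_mem (ker_StE M h1 D) (Subgroup.mem_subgroupOf.1 hg')
    have e2 : (g * g'⁻¹ : M.I).1 * g'.1 = g.1 := by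
      change g.1 * g'.1⁻¹ * g'.1 = g.1
      group
    rwa [e2] at h2
  · intro h
    exact Subgroup.mem_map_of_mem _ (Subgroup.mem_subgroupOf.2 h)

theorem mem_StK {D : Submodule F V} {x : K} : x ∈ StK M D ↔ ∃ g : M.I, g.1 ∈ StE D ∧ M.φ g = x := by
  constructor
  · rintro ⟨g, hg, e⟩
    exact ⟨g, Subgroup.mem_subgroupOf.1 hg, e⟩
  · rintro ⟨g, hg, rfl⟩
    exact (phi_mem_StK M).2 hg

variable {W : Type*} [Group W] (cs : CoxeterSystem (CoxeterMatrix.B n) W)

theorem T_le_StK (s : Bool) : WittModel.T M ≤ StK M (E Fr k s) := by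
  rintro _ ⟨g, hg, rfl⟩
  exact (phi_mem_StK M).2 (mono_StE (Subgroup.mem_subgroupOf.1 hg).2 s)

theorem B_le_StK : RGD.B cs (isCartan n) (WittModel.T M) (WittModel.X M) ≤ StK M (E Fr k true) := by
  refine sup_le (T_le_StK M true) (RGD.Sup_le fun x hx => ?_)
  intro y hy
  rw [WittModel.mem_X] at hy
  obtain ⟨g, hg, hgx, rfl⟩ := hy
  refine (phi_mem_StK M (g := ⟨g, hg⟩)).2 ?_
  rcases (hx.2 k).lt_or_eq with h | h
  · exact UR_le_St (rg_le_UR hx.1 hx.2 h hgx)
  · exact rg_le_St hx.1 h.symm true hgx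

theorem LJ_le_StK (s : Bool) :
    LJ cs (isCartan n) (WittModel.T M) (WittModel.X M) {k}ᶜ ≤ StK M (E Fr k s) := by
  refine sup_le (T_le_StK M s) (RGD.Sup_le fun x hx => ?_)
  intro y hy
  rw [WittModel.mem_X] at hy
  obtain ⟨g, hg, hgx, rfl⟩ := hy
  refine (phi_mem_StK M (g := ⟨g, hg⟩)).2 (rg_le_St hx.1 (hx.2 k (by simp)) s hgx)

theorem VJ_le {x : K} (hx : x ∈ VJ cs (isCartan n) (WittModel.X M) {k}ᶜ) : ∃ g : M.I, g.1 ∈ UR Fr k ∧ M.φ g = x := by
  have h1 : VJ cs (isCartan n) (WittModel.X M) {k}ᶜ ≤ ((UR Fr k).subgroupOf M.I).map M.φ := by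
    refine RGD.Sup_le fun x hx => ?_
    obtain ⟨h1, h2, j, hj, h3⟩ := hx
    have hjk : j = k := by simpa using hj
    subst hjk
    intro y hy
    rw [WittModel.mem_X] at hy
    obtain ⟨g, hg, hgx, rfl⟩ := hy
    exact Subgroup.mem_map_of_mem _ (Subgroup.mem_subgroupOf.2 (rg_le_UR h1 h2 h3 hgx))
  obtain ⟨g, hg, e⟩ := h1 hx
  exact ⟨g, Subgroup.mem_subgroupOf.1 hg, e⟩

variable {p : ℕ} (hA : AmbT Fr p M.I) {p0 : Fr.Adm} (hp0 : p0.c ≠ 0)

include hp0 in
theorem nn_StE_iff (i : Fin n) : nn Fr p0 i ∈ StE (E Fr k true) ↔ i ≠ k := by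
  have hm := mono_nn hp0 i
  constructor
  · rintro h rfl
    obtain ⟨l, hl, e⟩ := hm (i, true)
    have h1 : nn Fr p0 i (Fr.b (i, true)) ∈ E Fr i true := (h _).2 (b_mem_E le_rfl _)
    rw [e] at h1
    have h2 : Fr.b (sg i (i, true)) ∈ E Fr i true := by
      have := Submodule.smul_mem _ l⁻¹ h1
      rwa [smul_smul, inv_mul_cancel₀ hl, one_smul] at this
    by_cases hi : (i : ℕ) + 1 < n
    · rw [sg_up hi] at h2
      have h3 := h_E_zero (Fr := Fr) (k := i) (s := true) (x := (⟨i + 1, hi⟩, false))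
        (Or.inr (Fin.lt_def.2 (Nat.lt_succ_self _))) h2
      rw [Fr.hb] at h3
      simp at h3
    · rw [sg_last hi] at h2
      have h3 := h_E_zero (Fr := Fr) (k := i) (s := true) (x := (i, true)) (Or.inl rfl) h2
      rw [Fr.hb] at h3
      simp only [Bool.not_true, ne_eq, Bool.false_eq_true, not_false_eq_true, and_self, if_true, if_false] at h3
      exact H.ε_ne h3
  · intro hik
    -- `sg i` permutes the `(j, true)`, `j ≤ k`
    have key : ∀ j : Fin n, j ≤ k → ∃ j' : Fin n, j' ≤ k ∧ sg i (j, true) = (j', true) := by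
      intro j hj
      by_cases hi : (i : ℕ) + 1 < n
      · by_cases h1 : j = i
        · subst h1
          refine ⟨⟨j + 1, hi⟩, ?_, sg_up hi _⟩
          have : (j : ℕ) ≠ k := fun h => hik (Fin.ext h)
          have h2 : (j : ℕ) ≤ k := hj
          rw [Fin.le_def]
          simp only
          omega
        · by_cases h2 : (j : ℕ) = i + 1
          · have : j = ⟨i + 1, hi⟩ := Fin.ext h2
            rw [this, sg_down hi]
            refine ⟨i, ?_, rfl⟩
            have h3 : (j : ℕ) ≤ k := hj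
            rw [Fin.le_def]
            omega
          · exact ⟨j, hj, sg_of_ne h1 h2⟩
      · by_cases h1 : j = i
        · exfalso
          subst h1
          have h2 : (j : ℕ) ≤ k := hj
          have h3 : (j : ℕ) ≠ k := fun h => hik (Fin.ext h)
          have h4 := k.2
          omega
        · refine ⟨j, hj, sg_of_ne h1 ?_⟩
          have := j.2
          simp only
          omega
    have hle : ∀ g : V ≃ₗ[F] V, Mono Fr g (sg i) → ∀ v ∈ E Fr k true, g v ∈ E Fr k true := by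
      intro g hg v hv
      refine Submodule.span_induction (p := fun v _ => g v ∈ E Fr k true) ?_ ?_ ?_ ?_ hv
      · rintro _ ⟨j, hj, rfl⟩
        obtain ⟨c, -, hc⟩ := hg (j, true)
        obtain ⟨j', hj', e⟩ := key j hj
        rw [hc, e]
        exact Submodule.smul_mem _ _ (b_mem_E hj' _)
      · rw [map_zero]
        exact zero_mem _
      · intro x y _ _ hx hy
        rw [map_add]
        exact add_mem hx hy
      · intro c x _ hx
        rw [map_smul]
        exact Submodule.smul_mem _ _ hx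
    intro v
    refine ⟨fun h => ?_, hle _ hm v⟩
    have := hle _ (hm.inv (sg_sg i)) _ h
    rwa [inv_apply_self] at this

variable [Finite V] [Fact p.Prime] [CharP F p]

include hA hp0 in
/-- `P_J` is the image of the stabiliser of `E k true` -/
theorem StK_eq_PJ (hG : GG cs (isCartan n) (WittModel.T M) (WittModel.X M) = ⊤) :
    StK M (E Fr k true) = PJ cs (isCartan n) (WittModel.T M) (WittModel.X M) {k}ᶜ := by
  have : Finite W := finite_W cs
  have R := rgdC_model M hA hp0 cs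
  have h1 := inf_eq_PJ R (B_le_StK M cs (k := k))
  rw [hG, inf_top_eq] at h1
  rw [h1]
  congr 1
  ext i
  rw [Set.mem_ofPred_eq, phi_mem_StK, nn_StE_iff hp0]
  simp

include hA hp0 in
theorem phi_mem_PJ_iff (hG : GG cs (isCartan n) (WittModel.T M) (WittModel.X M) = ⊤) {g : M.I} :
    M.φ g ∈ PJ cs (isCartan n) (WittModel.T M) (WittModel.X M) {k}ᶜ ↔ g.1 ∈ StE (E Fr k true) := by
  rw [← StK_eq_PJ M cs hA hp0 hG, phi_mem_StK]

include hA hp0 in
theorem phi_mem_LJ_iff (hG : GG cs (isCartan n) (WittModel.T M) (WittModel.X M) = ⊤) {g : M.I} :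
    M.φ g ∈ LJ cs (isCartan n) (WittModel.T M) (WittModel.X M) {k}ᶜ ↔
      g.1 ∈ StE (E Fr k true) ∧ g.1 ∈ StE (E Fr k false) := by
  have R := rgdC_model M hA hp0 cs
  refine ⟨fun h => ⟨(phi_mem_StK M).1 (LJ_le_StK M cs true h), (phi_mem_StK M).1 (LJ_le_StK M cs false h)⟩, ?_⟩
  rintro ⟨h1, h2⟩
  have h3 := (phi_mem_PJ_iff M cs hA hp0 hG).2 h1
  obtain ⟨l, hl, v, hv, e⟩ := (mem_PJ R).1 h3
  obtain ⟨l', hl', rfl⟩ := (mem_StK M).1 (LJ_le_StK M cs false hl)
  obtain ⟨v', hv', rfl⟩ := VJ_le M cs hv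
  have h4 : M.φ (g⁻¹ * (l' * v')) = 1 := by rw [map_mul, map_inv, map_mul, ← e, inv_mul_cancel]
  have h5 := ker_StE M h4 (E Fr k false)
  have h6 : v'.1 ∈ StE (E Fr k false) := by
    have := mul_mem (inv_mem hl') (mul_mem h2 h5)
    have e2 : l'.1⁻¹ * (g.1 * (g⁻¹ * (l' * v') : M.I).1) = v'.1 := by
      change l'.1⁻¹ * (g.1 * (g.1⁻¹ * (l'.1 * v'.1))) = v'.1
      group
    rwa [e2] at this
  have h7 : v' = 1 := Subtype.ext (UR_inf (hA.iso _ v'.2) hv' h6)
  rw [e, h7, map_one, mul_one]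
  exact hl

/-! ### Elliptic elements -/

/-- an element of the kernel in the unipotent radical is trivial -/
theorem eq_one_of_ker {z : M.I} (hz : M.φ z = 1) (hu : z.1 ∈ UR Fr k) : z = 1 := by
  apply Subtype.ext
  ext w
  change z.1 w = w
  obtain ⟨a, ha⟩ := exists_of_ker M hz w
  by_contra hne
  have h1 : z.1 w - w = (a - 1) • w := by rw [ha, sub_smul, one_smul]
  have ha1 : a - 1 ≠ 0 := by
    intro h
    rw [h, zero_smul] at h1
    exact hne (sub_eq_zero.1 h1)
  have hsm : ∀ D : Submodule F V, z.1 w - w ∈ D → w ∈ D := by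
    intro D hD
    rw [h1] at hD
    have := Submodule.smul_mem _ (a - 1)⁻¹ hD
    rwa [smul_smul, inv_mul_cancel₀ ha1, one_smul] at this
  exact hne (hu.2.2 w (hsm _ (hu.2.1 w (hsm _ (hu.1 w)))))

open Polynomial in
include hA hp0 in
/-- **Fixed point free elements**: `E k true` is the kernel of a polynomial in `t`. -/
theorem free_of (hG : GG cs (isCartan n) (WittModel.T M) (WittModel.X M) = ⊤)
    (hnd : ∀ v : V, (∀ w, H.h v w = 0) → v = 0) {t : M.I} (h1 : t.1 ∈ StE (E Fr k true))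
    (h2 : t.1 ∈ StE (E Fr k false)) (f : F[X])
    (hf : ∀ w, aeval ((t.1 : V ≃ₗ[F] V) : Module.End F V) f w = 0 → w ∈ E Fr k true)
    (hf' : ∀ w ∈ E Fr k true, aeval ((t.1 : V ≃ₗ[F] V) : Module.End F V) f w = 0) :
    Free cs (isCartan n) (WittModel.T M) (WittModel.X M) {k}ᶜ (M.φ t) := by
  refine ⟨(phi_mem_LJ_iff M cs hA hp0 hG).2 ⟨h1, h2⟩, ?_⟩
  intro v hv hc
  obtain ⟨u, hu, rfl⟩ := VJ_le M cs hv
  have hti := hA.iso _ t.2
  have hui := hA.iso _ u.2
  have hz : t * u * t⁻¹ * u⁻¹ = 1 := by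
    refine eq_one_of_ker M (k := k) ?_ ?_
    · rw [map_mul, map_mul, map_mul, map_inv, map_inv, hc]
      group
    · exact mul_mem (UR_conj hti h1 hu) (inv_mem hu)
  have hcomm : t.1 * u.1 = u.1 * t.1 := by
    have h3 : t * u = u * t := by
      have := congrArg (· * u * t) hz
      simpa [mul_assoc] using this
    exact congrArg Subtype.val h3
  set τ : Module.End F V := ((t.1 : V ≃ₗ[F] V) : Module.End F V) with hτ
  set N : Module.End F V := ((u.1 : V ≃ₗ[F] V) : Module.End F V) - 1 with hN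
  have hNa : ∀ w, N w = u.1 w - w := fun w => rfl
  have hcomm' : Commute N τ := by
    have h3 : Commute ((u.1 : V ≃ₗ[F] V) : Module.End F V) τ := by
      ext w
      exact (LinearEquiv.congr_fun hcomm w).symm
    exact h3.sub_left (Commute.one_left _)
  set P : Module.End F V := aeval τ f with hP
  have hcP : ∀ w, N (P w) = P (N w) := fun w => LinearMap.congr_fun (commute_aeval hcomm' f) w
  have hP1 := StE_Pp hti h1
  have hP2 := StE_Pp hti h2
  -- the middle part
  have hM : ∀ m : V, m ∈ Pp Fr k true → m ∈ Pp Fr k false → N m = 0 := by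
    intro m hm hm'
    obtain ⟨m', ⟨hm1, hm2⟩, e⟩ := exists_of_inj (D := Pp Fr k true ⊓ Pp Fr k false)
      (aeval_mem (τ := τ) (D := Pp Fr k true ⊓ Pp Fr k false) (fun w hw => ⟨(hP1 w).2 hw.1, (hP2 w).2 hw.2⟩) f)
      (fun w hw h0 => E_inf_Pp (s := true) (hf w h0) hw.2) m ⟨hm, hm'⟩
    rw [← e, hcP, hNa]
    exact hf' _ (hu.2.1 m' hm1)
  have hB : ∀ b ∈ E Fr k false, N b ∈ E Fr k true := by
    intro b hb
    have h3 : N b ∈ Pp Fr k true := hu.1 b
    obtain ⟨a, ha, b', hb', m, hm, hm', e⟩ := exists_dec Fr k (N b)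
    have h4 : b' = 0 := by
      refine E_inf_Pp hb' ?_
      have e2 : b' = N b - a - m := by rw [e]; abel
      rw [e2]
      exact sub_mem (sub_mem h3 (E_le_Pp _ ha)) hm
    rw [h4, add_zero] at e
    have h5 : m = 0 := by
      refine hnd m fun w => ?_
      obtain ⟨a2, ha2, b2, hb2, m2, hm2, hm2', rfl⟩ := exists_dec Fr k w
      rw [H.add_right, H.add_right, Pp_E hm ha2, Pp_E hm' hb2, zero_add, zero_add]
      have e2 : m = N b - a := by rw [e]; abel
      rw [e2, H.sub_left, E_Pp hm2 ha, sub_zero, hNa, H.sub_left, E_Pp hm2' hb, sub_zero]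
      have h6 : u.1 m2 = m2 := sub_eq_zero.1 (hM m2 hm2 hm2')
      calc H.h (u.1 b) m2 = H.h (u.1 b) (u.1 m2) := by rw [h6]
        _ = H.h b m2 := hui _ _
        _ = 0 := E_Pp hm2' hb
    rw [e, h5, add_zero]
    exact ha
  have hB0 : ∀ b ∈ E Fr k false, N b = 0 := by
    intro b hb
    obtain ⟨b', hb', e⟩ := exists_of_inj (D := E Fr k false)
      (aeval_mem (τ := τ) (D := E Fr k false) (fun w hw => (h2 w).2 hw) f)
      (fun w hw h0 => E_inf_Pp (s := false) hw (E_le_Pp _ (hf w h0))) b hb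
    rw [← e, hcP]
    exact hf' _ (hB b' hb')
  have h1' : u = 1 := by
    apply Subtype.ext
    ext w
    obtain ⟨a, ha, b, hb, m, hm, hm', rfl⟩ := exists_dec Fr k w
    change u.1 (a + b + m) = a + b + m
    have e1 : u.1 b = b := sub_eq_zero.1 (hB0 b hb)
    have e2 : u.1 m = m := sub_eq_zero.1 (hM m hm hm')
    rw [map_add, map_add, hu.2.2 a ha, e1, e2]
  rw [h1', map_one]

theorem E_mono {i j : Fin n} (h : i ≤ j) (s : Bool) : E Fr i s ≤ E Fr j s :=
  Submodule.span_mono fun _ ⟨l, hl, e⟩ => ⟨l, hl.trans h, e⟩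

theorem b_notMem_E {i j : Fin n} (h : i < j) (s : Bool) : Fr.b (j, s) ∉ E Fr i s := by
  intro hm
  have h1 := h_E_zero (Fr := Fr) (k := i) (s := s) (x := (j, !s)) (Or.inr h) hm
  rw [Fr.hb] at h1
  cases s
  · simp only [Bool.not_false, Bool.false_eq_true, ne_eq, not_false_eq_true, and_self, if_true, if_false] at h1
    exact H.ε_ne h1
  · simp at h1

open Polynomial in
include hA hp0 in
/-- **Elliptic elements.** -/
theorem ell_of (hG : GG cs (isCartan n) (WittModel.T M) (WittModel.X M) = ⊤)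
    (hnd : ∀ v : V, (∀ w, H.h v w = 0) → v = 0) {t : M.I} (h1 : t.1 ∈ StE (E Fr k true))
    (h2 : t.1 ∈ StE (E Fr k false)) (f : F[X])
    (hf : ∀ w, aeval ((t.1 : V ≃ₗ[F] V) : Module.End F V) f w = 0 → w ∈ E Fr k true)
    (hf' : ∀ w ∈ E Fr k true, aeval ((t.1 : V ≃ₗ[F] V) : Module.End F V) f w = 0)
    (hirr : ∀ D : Submodule F V, D ≤ E Fr k true → (∀ w ∈ D, t.1 w ∈ D) → D = ⊥ ∨ D = E Fr k true)
    (hmid : ∀ D : Submodule F V, E Fr k true ≤ D → (∀ v ∈ D, ∀ w ∈ D, H.h v w = 0) → (∀ w ∈ D, t.1 w ∈ D) →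
      D = E Fr k true) :
    Ell cs (isCartan n) (WittModel.T M) (WittModel.X M) {k}ᶜ (M.φ t) := by
  refine ⟨free_of M cs hA hp0 hG hnd h1 h2 f hf hf', ?_⟩
  intro J hJ l hl hlt
  obtain ⟨l', hl', rfl⟩ := (mem_StK M).1 (LJ_le_StK M cs true hl)
  obtain ⟨i, hi, hiJ⟩ := Set.exists_of_ssubset hJ
  have hik : i ≠ k := by simpa using hi
  have hJi : J ⊆ {i}ᶜ := fun j hj => by
    rw [Set.mem_compl_singleton_iff]
    rintro rfl
    exact hiJ hj
  have R := rgdC_model M hA hp0 cs
  have : Finite W := finite_W cs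
  have hle : PJ cs (isCartan n) (WittModel.T M) (WittModel.X M) J ≤
      PJ cs (isCartan n) (WittModel.T M) (WittModel.X M) {i}ᶜ := by
    intro g hg
    obtain ⟨w, hw, hc⟩ := (mem_PJ_iff_cell R).1 hg
    exact (mem_PJ_iff_cell R).2 ⟨w, Cfsg.Agent.Tits.Exchange.WJ_mono cs hJi hw, hc⟩
  have h3 : M.φ (l' * t * l'⁻¹) ∈ PJ cs (isCartan n) (WittModel.T M) (WittModel.X M) {i}ᶜ := by
    rw [map_mul, map_mul, map_inv]
    exact hle hlt
  rw [phi_mem_PJ_iff M cs hA hp0 hG] at h3
  -- the invariant subspace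
  set D : Submodule F V := (E Fr i true).comap (l'.1 : V →ₗ[F] V) with hD
  have hmD : ∀ w, w ∈ D ↔ l'.1 w ∈ E Fr i true := fun w => Iff.rfl
  have hDt : ∀ w ∈ D, t.1 w ∈ D := by
    intro w hw
    rw [hmD] at hw ⊢
    have h4 := (h3 (l'.1 w)).2 hw
    have e : (l' * t * l'⁻¹ : M.I).1 (l'.1 w) = l'.1 (t.1 w) := by
      change l'.1 (t.1 (l'.1⁻¹ (l'.1 w))) = _
      rw [inv_apply_self]
    rwa [e] at h4
  rcases lt_or_gt_of_ne hik with hlt' | hlt'
  · have hDE : D ≤ E Fr k true := fun w hw => (hl' w).1 (E_mono hlt'.le _ hw)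
    rcases hirr D hDE hDt with h5 | h5
    · have h6 : l'.1⁻¹ (Fr.b (i, true)) ∈ D := by
        rw [hmD, apply_inv_self]
        exact b_mem_E le_rfl _
      rw [h5, Submodule.mem_bot] at h6
      have h7 : Fr.b (i, true) = 0 := by
        have := congrArg l'.1 h6
        rwa [apply_inv_self, map_zero] at this
      have h8 := Fr.hb (i, true) (i, false)
      rw [h7, H.zero_left] at h8
      simp at h8
    · have h6 : l'.1⁻¹ (Fr.b (k, true)) ∈ D := by
        rw [h5]
        exact (hl' _).1 (by rw [apply_inv_self]; exact b_mem_E le_rfl _)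
      rw [hmD, apply_inv_self] at h6
      exact b_notMem_E hlt' _ h6
  · have hED : E Fr k true ≤ D := fun w hw => by
      rw [hmD]
      exact E_mono hlt'.le _ ((hl' w).2 hw)
    have h5 := hmid D hED (fun v hv w hw => by
      rw [← hA.iso _ l'.2 v w]
      exact Pp_E (E_le_Pp _ hv) hw) hDt
    have h6 : l'.1⁻¹ (Fr.b (i, true)) ∈ D := by
      rw [hmD, apply_inv_self]
      exact b_mem_E le_rfl _
    rw [h5] at h6
    have h7 := (hl' _).2 h6
    rw [apply_inv_self] at h7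
    exact b_notMem_E hlt' _ h7

end group

end Cfsg.Agent.H769.OZ
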