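import Cfsg.Agent.H415.SpFlag
import Cfsg.Agent.Nodes.WittAll

/-!
# Levi subgroups of the models on Witt frames: linear algebra (helper769, S4842)

* `E Fr k s` : the span of the `b (i, s)`, `i ≤ k`; `Pp Fr k s` : its annihilator;
* `StE D` : the stabiliser of a subspace; `UR Fr k` : the unipotent radical of the stabiliser of `E Fr k true`;
* the root groups of `C_n` inside these groups.
-/

set_option autoImplicit false
set_option linter.unusedSectionVars false

namespace Cfsg.Agent.H769.OZ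

open Cfsg.Agent.Nodes.TypeC Cfsg.Agent.Nodes.WittRoot Cfsg.Agent.Nodes.WittRGD
open Cfsg.Agent.TitsThree.Siegel Cfsg.Agent.TitsThree.WittFrame
open Cfsg.Agent.H415.SpFlag (sum_ee sum_wt Good good_of_nonneg)

variable {F : Type*} [Field F] {V : Type*} [AddCommGroup V] [Module F V]

/-! ### Stabilisers -/

/-- the stabiliser of a subspace -/
def StE (D : Submodule F V) : Subgroup (V ≃ₗ[F] V) where
  carrier := {g | ∀ v, g v ∈ D ↔ v ∈ D}
  one_mem' v := Iff.rfl
  mul_mem' := by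
    intro a b ha hb v
    exact (ha (b v)).trans (hb v)
  inv_mem' := by
    intro a ha v
    rw [← ha (a⁻¹ v)]
    have e : a (a⁻¹ v) = v := a.apply_symm_apply v
    rw [e]

theorem mem_StE {D : Submodule F V} {g : V ≃ₗ[F] V} : g ∈ StE D ↔ ∀ v, g v ∈ D ↔ v ∈ D := Iff.rfl

theorem inv_apply_self (g : V ≃ₗ[F] V) (v : V) : g⁻¹ (g v) = v := g.symm_apply_apply v

theorem apply_inv_self (g : V ≃ₗ[F] V) (v : V) : g (g⁻¹ v) = v := g.apply_symm_apply v

theorem le_StE {D : Submodule F V} {S : Subgroup (V ≃ₗ[F] V)} (h : ∀ g ∈ S, ∀ v ∈ D, g v ∈ D) : S ≤ StE D := by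
  intro g hg v
  refine ⟨fun hv => ?_, h g hg v⟩
  have := h g⁻¹ (inv_mem hg) _ hv
  rwa [inv_apply_self] at this

/-- for finite spaces -/
theorem mem_StE_of_finite [Finite V] {D : Submodule F V} {g : V ≃ₗ[F] V} (h : ∀ v ∈ D, g v ∈ D) : g ∈ StE D := by
  have : Finite (V ≃ₗ[F] V) := Finite.of_injective (fun g : V ≃ₗ[F] V => (g : V → V)) DFunLike.coe_injective
  have hp : ∀ (m : ℕ) (v : V), v ∈ D → (g ^ m) v ∈ D := by
    intro m
    induction m with
    | zero => intro v hv; exact hv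
    | succ m ih =>
      intro v hv
      rw [pow_succ]
      exact ih _ (h v hv)
  have h1 : Subgroup.zpowers g ≤ StE D := by
    refine le_StE ?_
    intro x hx v hv
    obtain ⟨m, rfl⟩ := (mem_powers_iff_mem_zpowers (x := g)).2 hx
    exact hp m v hv
  exact h1 (Subgroup.mem_zpowers g)

variable {H : HForm F V} {n : ℕ} (Fr : Frame H (Fin n)) (k : Fin n)

/-- the span of the `b (i, s)`, `i ≤ k` -/
def E (s : Bool) : Submodule F V := Submodule.span F {v | ∃ i : Fin n, i ≤ k ∧ v = Fr.b (i, s)}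

/-- the annihilator of `E k s` -/
def Pp (s : Bool) : Submodule F V where
  carrier := {v | ∀ i : Fin n, i ≤ k → H.h v (Fr.b (i, s)) = 0}
  zero_mem' _ _ := H.zero_left _
  add_mem' := by
    intro a b ha hb i hi
    rw [H.add_left, ha i hi, hb i hi, add_zero]
  smul_mem' := by
    intro c a ha i hi
    rw [H.smul_left, ha i hi, mul_zero]

variable {Fr k}

theorem b_mem_E {i : Fin n} (hi : i ≤ k) (s : Bool) : Fr.b (i, s) ∈ E Fr k s := Submodule.subset_span ⟨i, hi, rfl⟩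

theorem mem_Pp {s : Bool} {v : V} : v ∈ Pp Fr k s ↔ ∀ i : Fin n, i ≤ k → H.h v (Fr.b (i, s)) = 0 := Iff.rfl

theorem Pp_E {s : Bool} {v w : V} (hv : v ∈ Pp Fr k s) (hw : w ∈ E Fr k s) : H.h v w = 0 := by
  refine Submodule.span_induction (p := fun w _ => H.h v w = 0) ?_ ?_ ?_ ?_ hw
  · rintro _ ⟨i, hi, rfl⟩
    exact hv i hi
  · exact H.zero_right _
  · intro x y _ _ hx hy
    rw [H.add_right, hx, hy, add_zero]
  · intro c x _ hx
    rw [H.smul_right, hx, mul_zero]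

theorem mem_Pp_iff {s : Bool} {v : V} : v ∈ Pp Fr k s ↔ ∀ w ∈ E Fr k s, H.h v w = 0 :=
  ⟨fun hv _ hw => Pp_E hv hw, fun h i hi => h _ (b_mem_E hi s)⟩

theorem E_Pp {s : Bool} {v w : V} (hv : v ∈ Pp Fr k s) (hw : w ∈ E Fr k s) : H.h w v = 0 := H.orth_symm (Pp_E hv hw)

theorem E_le_Pp (s : Bool) : E Fr k s ≤ Pp Fr k s := by
  refine Submodule.span_le.2 ?_
  rintro _ ⟨i, hi, rfl⟩ j hj
  rw [Fr.hb_ne]
  intro h
  have := congrArg Prod.snd h
  simp [neg] at this

theorem b_mem_Pp {x : Fin n × Bool} {s : Bool} (h : x.2 = s ∨ k < x.1) : Fr.b x ∈ Pp Fr k s := by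
  intro i hi
  rw [Fr.hb_ne]
  intro e
  rcases h with h | h
  · have := congrArg Prod.snd e
    simp [neg, h] at this
  · have := congrArg Prod.fst e
    simp only [neg_fst] at this
    rw [this] at hi
    exact absurd hi (not_le.2 h)

theorem V0_le_Pp (s : Bool) : Fr.V0 ≤ Pp Fr k s := fun _ hw _ _ => Fr.h0' _ hw

theorem StE_Pp {s : Bool} {g : V ≃ₗ[F] V} (hg : H.IsIso g) (h : g ∈ StE (E Fr k s)) : g ∈ StE (Pp Fr k s) := by
  intro v
  rw [mem_Pp_iff, mem_Pp_iff]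
  constructor
  · intro h1 w hw
    rw [← hg v w]
    exact h1 _ ((h w).2 hw)
  · intro h1 w hw
    have h2 : g⁻¹ w ∈ E Fr k s := (h _).1 (by rwa [apply_inv_self])
    have h3 := h1 _ h2
    rw [← hg, apply_inv_self] at h3
    exact h3

/-! ### The unipotent radical -/

variable (Fr k) in
/-- the unipotent radical of the stabiliser of `E k true` -/
def UR : Subgroup (V ≃ₗ[F] V) where
  carrier := {g | (∀ v, g v - v ∈ Pp Fr k true) ∧ (∀ v ∈ Pp Fr k true, g v - v ∈ E Fr k true) ∧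
    ∀ v ∈ E Fr k true, g v = v}
  one_mem' := by
    refine ⟨fun v => ?_, fun v _ => ?_, fun v _ => rfl⟩ <;>
    · have e : (1 : V ≃ₗ[F] V) v - v = 0 := sub_self v
      rw [e]
      exact zero_mem _
  mul_mem' := by
    rintro a b ⟨ha1, ha2, ha3⟩ ⟨hb1, hb2, hb3⟩
    have e : ∀ v, (a * b) v - v = (a (b v) - b v) + (b v - v) := fun v => by
      change a (b v) - v = _
      abel
    refine ⟨fun v => ?_, fun v hv => ?_, fun v hv => ?_⟩
    · rw [e]
      exact add_mem (ha1 _) (hb1 _)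
    · rw [e]
      have h1 : b v ∈ Pp Fr k true := by
        have := add_mem (E_le_Pp _ (hb2 v hv)) hv
        rwa [sub_add_cancel] at this
      exact add_mem (ha2 _ h1) (hb2 _ hv)
    · change a (b v) = v
      rw [hb3 v hv, ha3 v hv]
  inv_mem' := by
    rintro a ⟨ha1, ha2, ha3⟩
    have e : ∀ v, a⁻¹ v - v = -(a (a⁻¹ v) - a⁻¹ v) := fun v => by
      rw [apply_inv_self]
      abel
    refine ⟨fun v => ?_, fun v hv => ?_, fun v hv => ?_⟩
    · rw [e]
      exact neg_mem (ha1 _)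
    · rw [e]
      refine neg_mem (ha2 _ ?_)
      have h1 : a⁻¹ v - v ∈ Pp Fr k true := by
        rw [e]
        exact neg_mem (ha1 _)
      have := add_mem h1 hv
      rwa [sub_add_cancel] at this
    · calc a⁻¹ v = a⁻¹ (a v) := by rw [ha3 v hv]
        _ = v := inv_apply_self _ _

theorem mem_UR {g : V ≃ₗ[F] V} : g ∈ UR Fr k ↔ (∀ v, g v - v ∈ Pp Fr k true) ∧
    (∀ v ∈ Pp Fr k true, g v - v ∈ E Fr k true) ∧ ∀ v ∈ E Fr k true, g v = v := Iff.rfl

theorem sie_mem_UR {u w : V} {c : F} (hu : H.h u u = 0) (hw : H.h u w = 0) (h1 : u ∈ Pp Fr k true)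
    (h2 : w ∈ Pp Fr k true) (h3 : u ∈ E Fr k true ∨ (w ∈ E Fr k true ∧ c = 0)) : H.sie u w c hu hw ∈ UR Fr k := by
  have e : ∀ v, H.sie u w c hu hw v - v = H.h v u • w - (H.ε⁻¹ * H.h v w) • u + (c * H.h v u) • u := fun v => by
    rw [H.sie_apply]
    abel
  refine ⟨fun v => ?_, fun v hv => ?_, fun v hv => ?_⟩
  · rw [e]
    exact add_mem (sub_mem (Submodule.smul_mem _ _ h2) (Submodule.smul_mem _ _ h1)) (Submodule.smul_mem _ _ h1)
  · rw [e]
    rcases h3 with h3 | ⟨h3, h4⟩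
    · rw [Pp_E hv h3, zero_smul, mul_zero, zero_smul, add_zero, zero_sub]
      exact neg_mem (Submodule.smul_mem _ _ h3)
    · rw [Pp_E hv h3, h4, mul_zero, zero_smul, zero_mul, zero_smul, add_zero, sub_zero]
      exact Submodule.smul_mem _ _ h3
  · have h5 : H.h v u = 0 := E_Pp h1 hv
    have h6 : H.h v w = 0 := E_Pp h2 hv
    rw [H.sie_apply, h5, h6, zero_smul, mul_zero, zero_smul, mul_zero, zero_smul, add_zero, add_zero, sub_zero]

/-- the root groups in the unipotent radical -/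
theorem PG_le_UR {a b : Fin n × Bool} (hab : Ok a b) (h : Good a b)
    (hk : (a.1 ≤ k ∧ (b.2 = true ∨ k < b.1)) ∨ (b.1 ≤ k ∧ b.2 = true)) : PG Fr a b ≤ UR Fr k := by
  obtain ⟨i, s⟩ := a
  obtain ⟨j, t⟩ := b
  obtain ⟨hs, h⟩ := h
  simp only at hs h hk
  subst hs
  rcases hab with hne | heq
  · rw [PG_ne _ hne]
    rintro _ ⟨c, rfl⟩
    rw [Frame.X_eq _ hne]
    refine sie_mem_UR _ _ (b_mem_Pp (Or.inl rfl)) (Submodule.smul_mem _ _ (b_mem_Pp ?_)) ?_
    · rcases hk with ⟨-, hk | hk⟩ | ⟨-, hk⟩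
      · exact Or.inl hk
      · exact Or.inr hk
      · exact Or.inl hk
    · rcases hk with ⟨hk, -⟩ | ⟨hk, rfl⟩
      · exact Or.inl (b_mem_E hk _)
      · exact Or.inr ⟨Submodule.smul_mem _ _ (b_mem_E hk _), rfl⟩
  · obtain ⟨rfl, rfl⟩ := Prod.mk.injEq .. ▸ heq
    rw [PG_self]
    rintro _ ⟨q, rfl⟩
    have hi : i ≤ k := by
      rcases hk with ⟨hk, -⟩ | ⟨hk, -⟩ <;> exact hk
    exact sie_mem_UR _ _ (b_mem_Pp (Or.inl rfl)) (V0_le_Pp _ (Fr.ok_mem q.ok)) (Or.inl (b_mem_E hi _))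

/-! ### The Levi subgroup -/

theorem sie_mem_St {D : Submodule F V} {u w : V} {c : F} (hu : H.h u u = 0) (hw : H.h u w = 0)
    (h1 : ∀ v ∈ D, H.h v u = 0 ∨ (c = 0 ∧ w ∈ D)) (h2 : ∀ v ∈ D, H.h v w = 0 ∨ u ∈ D) :
    ∀ v ∈ D, H.sie u w c hu hw v ∈ D := by
  intro v hv
  rw [H.sie_apply]
  refine add_mem (sub_mem (add_mem hv ?_) ?_) ?_
  · rcases h1 v hv with h | ⟨-, h⟩
    · rw [h, zero_smul]
      exact zero_mem _
    · exact Submodule.smul_mem _ _ h
  · rcases h2 v hv with h | h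
    · rw [h, mul_zero, zero_smul]
      exact zero_mem _
    · exact Submodule.smul_mem _ _ h
  · rcases h1 v hv with h | ⟨h, -⟩
    · rw [h, mul_zero, zero_smul]
      exact zero_mem _
    · rw [h, zero_mul, zero_smul]
      exact zero_mem _

theorem h_E_zero {x : Fin n × Bool} {s : Bool} (h : x.2 = s ∨ k < x.1) {v : V} (hv : v ∈ E Fr k s) :
    H.h v (Fr.b x) = 0 := E_Pp (b_mem_Pp h) hv

/-- the root groups of the Levi subgroup preserve `E k true` and `E k false` -/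
theorem PG_le_St {a b : Fin n × Bool} (hab : Ok a b)
    (hk : (k < a.1 ∧ k < b.1) ∨ (a.1 ≤ k ∧ b.1 ≤ k ∧ a.2 ≠ b.2)) (s : Bool) : PG Fr a b ≤ StE (E Fr k s) := by
  rcases hab with hne | heq
  · refine le_StE ?_
    rw [PG_ne _ hne]
    rintro _ ⟨c, rfl⟩
    rw [Frame.X_eq _ hne]
    rcases hk with ⟨h1, h2⟩ | ⟨h1, h2, h3⟩
    · refine sie_mem_St _ _ (fun v hv => Or.inl (h_E_zero (Or.inr h1) hv)) (fun v hv => Or.inl ?_)
      rw [H.smul_right, h_E_zero (Or.inr h2) hv, mul_zero]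
    · by_cases hs : a.2 = s
      · refine sie_mem_St _ _ (fun v hv => Or.inl (h_E_zero (Or.inl hs) hv)) (fun v hv => Or.inr ?_)
        obtain ⟨i, t⟩ := a
        simp only at hs
        subst hs
        exact b_mem_E h1 _
      · have hs' : b.2 = s := by
          cases hb : b.2 <;> cases ha : a.2 <;> cases s <;> simp_all
        refine sie_mem_St _ _ (fun v hv => Or.inr ⟨rfl, ?_⟩) (fun v hv => Or.inl ?_)
        · obtain ⟨i, t⟩ := b
          simp only at hs'
          subst hs'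
          exact Submodule.smul_mem _ _ (b_mem_E h2 _)
        · rw [H.smul_right, h_E_zero (Or.inl hs') hv, mul_zero]
  · subst heq
    refine le_StE ?_
    rw [PG_self]
    rintro _ ⟨q, rfl⟩
    rcases hk with ⟨h1, -⟩ | ⟨-, -, h3⟩
    · refine sie_mem_St _ _ (fun v hv => Or.inl (h_E_zero (Or.inr h1) hv)) (fun v hv => Or.inl ?_)
      exact E_Pp (V0_le_Pp _ (Fr.ok_mem q.ok)) hv
    · exact absurd rfl h3

theorem mono_StE {g : V ≃ₗ[F] V} (hg : Mono Fr g id) (s : Bool) : g ∈ StE (E Fr k s) := by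
  have key : ∀ g : V ≃ₗ[F] V, Mono Fr g id → ∀ v ∈ E Fr k s, g v ∈ E Fr k s := by
    intro g hg v hv
    refine Submodule.span_induction (p := fun v _ => g v ∈ E Fr k s) ?_ ?_ ?_ ?_ hv
    · rintro _ ⟨i, hi, rfl⟩
      obtain ⟨c, -, hc⟩ := hg (i, s)
      rw [hc]
      exact Submodule.smul_mem _ _ (b_mem_E hi _)
    · rw [map_zero]
      exact zero_mem _
    · intro x y _ _ hx hy
      rw [map_add]
      exact add_mem hx hy
    · intro c x _ hx
      rw [map_smul]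
      exact Submodule.smul_mem _ _ hx
  intro v
  refine ⟨fun h => ?_, key g hg v⟩
  have := key g⁻¹ (hg.inv fun _ => rfl) _ h
  rwa [inv_apply_self] at this

/-! ### Positive roots -/

theorem pos_cases {x : Fin n → ℤ} {a b : Fin n × Bool} (h : Good a b)
    (e : ee x = wt a + wt b) (hx : 0 < x k) :
    (a.1 ≤ k ∧ (b.2 = true ∨ k < b.1)) ∨ (b.1 ≤ k ∧ b.2 = true) := by
  have h1 := sum_ee x k
  rw [e] at h1
  simp only [Pi.add_apply, Finset.sum_add_distrib, sum_wt] at h1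
  have h2 : 0 < (if (k : ℕ) + 1 < n then (1 : ℤ) else 2) * x k := by
    refine mul_pos ?_ hx
    split_ifs <;> norm_num
  rw [← h1] at h2
  obtain ⟨hs, h⟩ := h
  rw [hs] at h2
  simp only [if_true] at h2
  rcases h with hb | ⟨hlt, hb⟩
  · rw [hb] at h2 ⊢
    simp only [if_true] at h2
    by_cases h3 : a.1 ≤ k
    · exact Or.inl ⟨h3, Or.inl rfl⟩
    · rw [if_neg h3, zero_add] at h2
      refine Or.inr ⟨?_, rfl⟩
      by_contra h4
      rw [if_neg h4] at h2
      exact lt_irrefl _ h2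
  · rw [hb] at h2
    simp only [Bool.false_eq_true, if_false] at h2
    by_cases h3 : a.1 ≤ k
    · refine Or.inl ⟨h3, Or.inr ?_⟩
      by_contra h4
      rw [if_pos h3, if_pos (not_lt.1 h4)] at h2
      norm_num at h2
    · rw [if_neg h3] at h2
      split_ifs at h2 <;> norm_num at h2

theorem levi_cases {x : Fin n → ℤ} {a b : Fin n × Bool}
    (e : ee x = wt a + wt b) (hx : x k = 0) :
    (k < a.1 ∧ k < b.1) ∨ (a.1 ≤ k ∧ b.1 ≤ k ∧ a.2 ≠ b.2) := by
  have h1 := sum_ee x k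
  rw [e, hx, mul_zero] at h1
  simp only [Pi.add_apply, Finset.sum_add_distrib, sum_wt] at h1
  by_cases h2 : a.1 ≤ k <;> by_cases h3 : b.1 ≤ k
  · refine Or.inr ⟨h2, h3, fun h4 => ?_⟩
    rw [if_pos h2, if_pos h3, h4] at h1
    split_ifs at h1 <;> norm_num at h1
  · rw [if_pos h2, if_neg h3] at h1
    split_ifs at h1 <;> norm_num at h1
  · rw [if_neg h2, if_pos h3] at h1
    split_ifs at h1 <;> norm_num at h1
  · exact Or.inl ⟨not_le.1 h2, not_le.1 h3⟩

/-- the root groups of the positive roots with `x k ≠ 0` -/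
theorem rg_le_UR {W : Type*} [Group W] {cs : CoxeterSystem (CoxeterMatrix.B n) W} {x : Fin n → ℤ}
    (hx : Cfsg.Agent.Tits.Roots.IsRoot cs (isCartan n) x) (h0 : 0 ≤ x) (hk : 0 < x k) : rg Fr x ≤ UR Fr k := by
  obtain ⟨a, b, hab, e⟩ := exists_of_isRoot _ hx
  rw [rg_eq _ hab e]
  rcases good_of_nonneg h0 hab e with h | h
  · exact PG_le_UR hab h (pos_cases h e hk)
  · rw [PG_swap _ hab]
    exact PG_le_UR hab.symm h (pos_cases h (by rw [e, add_comm]) hk)

/-- the root groups of the roots with `x k = 0` -/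
theorem rg_le_St {W : Type*} [Group W] {cs : CoxeterSystem (CoxeterMatrix.B n) W} {x : Fin n → ℤ}
    (hx : Cfsg.Agent.Tits.Roots.IsRoot cs (isCartan n) x) (hk : x k = 0) (s : Bool) : rg Fr x ≤ StE (E Fr k s) := by
  obtain ⟨a, b, hab, e⟩ := exists_of_isRoot _ hx
  rw [rg_eq _ hab e]
  exact PG_le_St hab (levi_cases e hk) s

theorem UR_le_St : UR Fr k ≤ StE (E Fr k true) :=
  le_StE fun g hg v hv => by rw [hg.2.2 v hv]; exact hv

end Cfsg.Agent.H769.OZ
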