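import Cfsg.Agent.H769.OZ.SpEl

/-!
# Two classes of elliptic elements in the Levi subgroups of `PSp₄(q)` (helper769, S4842)

* `trace_sq_of_isConj` : conjugate elements of `PSp` have lifts with the same trace up to sign;
* `exists_S` : `q ≥ 4`: two non-conjugate elliptic elements of the Levi subgroup of the short root;
* `exists_L` : `q = 4` or `q ≥ 7`: the same for the long root.
-/

set_option autoImplicit false
set_option linter.unusedSectionVars false

namespace Cfsg.Agent.H769.OZ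

open Cfsg Cfsg.Agent.ChevalleyStructure.CoxeterGeom Cfsg.Agent.Tits.Roots Cfsg.Agent.Nodes.TypeC
open Cfsg.Agent.Nodes Cfsg.Agent.Nodes.Comb Cfsg.Agent.Nodes.Reps Cfsg.Agent.Nodes.WittRoot Cfsg.Agent.Nodes.BNOf
open Cfsg.Agent.TitsThree Cfsg.Agent.TitsThree.Siegel Cfsg.Agent.TitsThree.WittFrame
  Cfsg.Agent.TitsThree.WittWeyl Cfsg.Agent.TitsThree.FrameCN Cfsg.Agent.TitsThree.SpIdent
open Cfsg.Agent.H985.VZ Cfsg.Agent.ClassicalGeometry

variable {F : Type*} [Field F]

/-- the trace of an isometry -/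
noncomputable def tr {m : ℕ} (g : isos (form m F)) : F :=
  LinearMap.trace F (Fin m ⊕ Fin m → F) ((g.1 : (Fin m ⊕ Fin m → F) ≃ₗ[F] (Fin m ⊕ Fin m → F)) : _ →ₗ[F] _)

theorem trace_sq_of_isConj {m : ℕ} {g g' : isos (form m F)} (h : IsConj (toPSp g) (toPSp g')) :
    tr g ^ 2 = tr g' ^ 2 := by
  obtain ⟨c, hc⟩ := isConj_iff.1 h
  obtain ⟨k, rfl⟩ := toPSp_surjective c
  have h1 : toPSp (k * g * k⁻¹ * g'⁻¹) = 1 := by
    rw [map_mul, map_mul, map_mul, map_inv, map_inv, hc, mul_inv_cancel]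
  obtain ⟨a, ha, hv⟩ := exists_smul_of_toPSp_eq_one h1
  set kk : (Fin m ⊕ Fin m → F) ≃ₗ[F] (Fin m ⊕ Fin m → F) := k.1 with hkk
  set gg : (Fin m ⊕ Fin m → F) ≃ₗ[F] (Fin m ⊕ Fin m → F) := g.1 with hgg
  set gg' : (Fin m ⊕ Fin m → F) ≃ₗ[F] (Fin m ⊕ Fin m → F) := g'.1 with hgg'
  have h2 : ∀ v, kk (gg (kk.symm v)) = a • gg' v := by
    intro v
    have h3 := hv (gg' v)
    have e : (k * g * k⁻¹ * g'⁻¹ : isos (form m F)).1 (gg' v) = kk (gg (kk.symm v)) := by
      change kk (gg (kk⁻¹ (gg'⁻¹ (gg' v)))) = _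
      rw [inv_apply_self]
      rfl
    rw [← e]
    exact h3
  have h3 : ((kk : (Fin m ⊕ Fin m → F) →ₗ[F] (Fin m ⊕ Fin m → F)) ∘ₗ
      (gg : (Fin m ⊕ Fin m → F) →ₗ[F] (Fin m ⊕ Fin m → F))) ∘ₗ
      (kk.symm : (Fin m ⊕ Fin m → F) →ₗ[F] (Fin m ⊕ Fin m → F)) =
      a • (gg' : (Fin m ⊕ Fin m → F) →ₗ[F] (Fin m ⊕ Fin m → F)) := LinearMap.ext fun v => h2 v
  have h4 := congrArg (LinearMap.trace F (Fin m ⊕ Fin m → F)) h3
  rw [map_smul, LinearMap.trace_comp_comm', ← LinearMap.comp_assoc] at h4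
  have h5 : (kk.symm : (Fin m ⊕ Fin m → F) →ₗ[F] (Fin m ⊕ Fin m → F)) ∘ₗ (kk : _ →ₗ[F] _) = LinearMap.id :=
    LinearMap.ext fun v => kk.symm_apply_apply v
  rw [h5, LinearMap.id_comp] at h4
  have h6 : tr g = a • tr g' := h4
  rw [h6, smul_eq_mul, mul_pow, ha, one_mul]

theorem trace4 (f : V4 F →ₗ[F] V4 F) : LinearMap.trace F (V4 F) f =
    f (Pi.single (Sum.inl 0) 1) (Sum.inl 0) + f (Pi.single (Sum.inl 1) 1) (Sum.inl 1) +
      (f (Pi.single (Sum.inr 0) 1) (Sum.inr 0) + f (Pi.single (Sum.inr 1) 1) (Sum.inr 1)) := by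
  rw [LinearMap.trace_eq_matrix_trace F (Pi.basisFun F (Fin 2 ⊕ Fin 2)), Matrix.trace, Fintype.sum_sum_type,
    Fin.sum_univ_two, Fin.sum_univ_two]
  simp [Matrix.diag, LinearMap.toMatrix_apply]

theorem tr_S (s d : F) (hd : d ≠ 0) : tr ⟨tS s d hd, tS_mem s d hd⟩ = (1 + d⁻¹) * s := by
  rw [tr, trace4]
  change (tS s d hd) _ _ + (tS s d hd) _ _ + ((tS s d hd) _ _ + (tS s d hd) _ _) = _
  simp only [tS_apply, mk4_l0, mk4_l1, mk4_r0, mk4_r1]
  simp
  ring

theorem tr_L (a s : F) (ha : a ≠ 0) : tr ⟨tL a s ha, tL_mem a s ha⟩ = a + a⁻¹ + s := by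
  rw [tr, trace4]
  change (tL a s ha) _ _ + (tL a s ha) _ _ + ((tL a s ha) _ _ + (tL a s ha) _ _) = _
  simp only [tL_apply, mk4_l0, mk4_l1, mk4_r0, mk4_r1]
  simp
  ring

/-! ### Counting quadratic polynomials without roots -/

section count

variable [Fintype F] [DecidableEq F]

/-- the traces of the polynomials `x² - s x + d` without roots -/
def NR (d : F) : Finset F := Finset.univ.filter fun s => ∀ x : F, x ^ 2 - s * x + d ≠ 0

theorem mem_NR {d s : F} : s ∈ NR d ↔ ∀ x : F, x ^ 2 - s * x + d ≠ 0 := by simp [NR]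

theorem card_NR {d : F} (hd : d ≠ 0) :
    Fintype.card F + 1 ≤ 2 * (NR d).card + (Finset.univ.filter fun x : F => x ^ 2 = d).card := by
  classical
  set A : Finset F := Finset.univ.erase 0 with hA
  set B : Finset F := Finset.univ.filter fun x : F => x ^ 2 = d with hB
  set φ : F → F := fun x => x + d / x with hφ
  have hsub : B ⊆ A := by
    intro x hx
    rw [hB, Finset.mem_filter] at hx
    rw [hA, Finset.mem_erase]
    refine ⟨fun h => hd ?_, Finset.mem_univ _⟩
    rw [← hx.2, h]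
    ring
  -- the complement of `NR d` is the image of `φ`
  have himg : (NR d)ᶜ = A.image φ := by
    ext s
    rw [Finset.mem_compl, mem_NR, Finset.mem_image]
    push Not
    constructor
    · rintro ⟨x, hx⟩
      have hx0 : x ≠ 0 := by
        rintro rfl
        apply hd
        linear_combination hx
      refine ⟨x, by rw [hA, Finset.mem_erase]; exact ⟨hx0, Finset.mem_univ _⟩, ?_⟩
      rw [hφ]
      field_simp
      linear_combination hx
    · rintro ⟨x, hx, rfl⟩
      rw [hA, Finset.mem_erase] at hx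
      refine ⟨x, ?_⟩
      rw [hφ]
      have := hx.1
      field_simp
      ring
  have h1 : A.card = ∑ y ∈ A.image φ, (A.filter fun x => φ x = y).card :=
    Finset.card_eq_sum_card_fiberwise fun x hx => Finset.mem_image_of_mem φ hx
  have h2 : B.card = ∑ y ∈ A.image φ, (B.filter fun x => φ x = y).card :=
    Finset.card_eq_sum_card_fiberwise fun x hx => Finset.mem_image_of_mem φ (hsub hx)
  have h3 : 2 * (A.image φ).card ≤ A.card + B.card := by
    rw [h1, h2, ← Finset.sum_add_distrib, mul_comm, ← smul_eq_mul]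
    refine Finset.card_nsmul_le_sum _ _ _ fun y hy => ?_
    obtain ⟨x, hx, rfl⟩ := Finset.mem_image.1 hy
    have hx0 : x ≠ 0 := by
      rw [hA, Finset.mem_erase] at hx
      exact hx.1
    by_cases hxd : x ^ 2 = d
    · have k1 : 0 < (A.filter fun z => φ z = φ x).card := Finset.card_pos.2 ⟨x, by simp [hx]⟩
      have k2 : 0 < (B.filter fun z => φ z = φ x).card := Finset.card_pos.2 ⟨x, by simp [hB, hxd]⟩
      omega
    · have hne : x ≠ d / x := by
        intro h
        apply hxd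
        rw [eq_div_iff hx0] at h
        linear_combination h
      have k1 : 1 < (A.filter fun z => φ z = φ x).card := by
        refine Finset.one_lt_card.2 ⟨x, by simp [hx], d / x, ?_, hne⟩
        rw [Finset.mem_filter, hA, Finset.mem_erase]
        refine ⟨⟨div_ne_zero hd hx0, Finset.mem_univ _⟩, ?_⟩
        rw [hφ]
        field_simp
        ring
      omega
  have h4 : A.card + 1 = Fintype.card F := by
    rw [hA, Finset.card_erase_of_mem (Finset.mem_univ _), Finset.card_univ]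
    have := Fintype.card_pos (α := F)
    omega
  have h5 : (NR d).card + (A.image φ).card = Fintype.card F := by
    rw [← himg, Finset.card_compl]
    have : (NR d).card ≤ Fintype.card F := Finset.card_le_univ _
    omega
  omega

/-- two elements with different squares -/
theorem exists_sq_ne {S : Finset F} (hS : 3 ≤ S.card ∨ ((2 : F) = 0 ∧ 2 ≤ S.card)) (c m : F) (hm : m ≠ 0) :
    ∃ s ∈ S, ∃ s' ∈ S, (c + m * s) ^ 2 ≠ (c + m * s') ^ 2 := by
  by_contra hcon
  push Not at hcon
  have key : ∀ s ∈ S, ∀ s' ∈ S, s = s' ∨ c + m * s = -(c + m * s') := by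
    intro s hs s' hs'
    rcases sq_eq_sq_iff_eq_or_eq_neg.1 (hcon s hs s' hs') with h | h
    · left
      exact mul_left_cancel₀ hm (add_left_cancel h)
    · exact Or.inr h
  rcases hS with hS | ⟨h2, hS⟩
  · obtain ⟨x, hx, y, hy, z, hz, hxy, hxz, hyz⟩ := Finset.two_lt_card.1 (show 2 < S.card by omega)
    have k1 := (key x hx y hy).resolve_left hxy
    have k2 := (key x hx z hz).resolve_left hxz
    apply hyz
    refine mul_left_cancel₀ hm ?_
    linear_combination k1 - k2
  · obtain ⟨x, hx, y, hy, hxy⟩ := Finset.one_lt_card.1 (show 1 < S.card by omega)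
    have k1 := (key x hx y hy).resolve_left hxy
    apply hxy
    refine mul_left_cancel₀ hm ?_
    linear_combination k1 + (- c - m * y) * h2

theorem card_sq_le_two (d : F) : (Finset.univ.filter fun x : F => x ^ 2 = d).card ≤ 2 := by
  by_cases h : ∃ x : F, x ^ 2 = d
  · obtain ⟨x, rfl⟩ := h
    have : (Finset.univ.filter fun y : F => y ^ 2 = x ^ 2) ⊆ {x, -x} := by
      intro y hy
      rw [Finset.mem_filter] at hy
      rcases sq_eq_sq_iff_eq_or_eq_neg.1 hy.2 with h | h <;> simp [h]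
    exact (Finset.card_le_card this).trans Finset.card_le_two
  · push Not at h
    rw [Finset.filter_false_of_mem fun x _ => h x]
    simp

theorem card_sq_le_one (h2 : (2 : F) = 0) (d : F) : (Finset.univ.filter fun x : F => x ^ 2 = d).card ≤ 1 := by
  rw [Finset.card_le_one]
  intro x hx y hy
  rw [Finset.mem_filter] at hx hy
  have h : (x - y) ^ 2 = 0 := by linear_combination hx.2 - hy.2 + (y ^ 2 - x * y) * h2
  exact sub_eq_zero.1 (pow_eq_zero_iff (two_ne_zero) |>.1 h)

theorem exists_ne_three (hq : 4 ≤ Fintype.card F) (a b c : F) : ∃ x : F, x ≠ a ∧ x ≠ b ∧ x ≠ c := by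
  by_contra h
  push Not at h
  have h1 : (Finset.univ : Finset F) ⊆ {a, b, c} := by
    intro x _
    rw [Finset.mem_insert, Finset.mem_insert, Finset.mem_singleton]
    by_cases h2 : x = a
    · exact Or.inl h2
    by_cases h3 : x = b
    · exact Or.inr (Or.inl h3)
    exact Or.inr (Or.inr (h x h2 h3))
  have h2 := Finset.card_le_card h1
  rw [Finset.card_univ] at h2
  have h3 := Finset.card_le_three (a := a) (b := b) (c := c)
  omega

end count

theorem ringChar_ne (h2 : (2 : F) ≠ 0) : ringChar F ≠ 2 := by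
  intro h
  apply h2
  have h3 := ringChar.Nat.cast_ringChar (R := F)
  rw [h] at h3
  exact_mod_cast h3

/-! ### The elements -/

section main

variable [Finite F] {W : Type*} [Group W] (cs : CoxeterSystem (CoxeterMatrix.B 2) W)

/-- **Two classes of short elliptic elements.** -/
theorem exists_S {p : ℕ} [Fact p.Prime] [CharP F p] (hq : 4 ≤ Nat.card F) : ∃ t t' : PSp 2 F, ¬ IsConj t t' ∧
    Ell cs (isCartan 2) (WittModel.T (KInstSp.model 2 F)) (WittModel.X (KInstSp.model 2 F)) {1}ᶜ t ∧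
    Ell cs (isCartan 2) (WittModel.T (KInstSp.model 2 F)) (WittModel.X (KInstSp.model 2 F)) {1}ᶜ t' := by
  classical
  have : Fintype F := Fintype.ofFinite F
  rw [Nat.card_eq_fintype_card] at hq
  obtain ⟨d, hd0, hd1, hd2, hS⟩ : ∃ d : F, d ≠ 0 ∧ d ≠ 1 ∧ d ≠ -1 ∧
      (3 ≤ (NR d).card ∨ ((2 : F) = 0 ∧ 2 ≤ (NR d).card)) := by
    by_cases h2 : (2 : F) = 0
    · obtain ⟨d, h0, h1, h3⟩ := exists_ne_three hq (0 : F) 1 (-1)
      refine ⟨d, h0, h1, h3, Or.inr ⟨h2, ?_⟩⟩
      have := card_NR h0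
      have := card_sq_le_one h2 d
      omega
    · -- a nonsquare `≠ -1`
      have hns : ∃ d : F, d ≠ -1 ∧ ∀ x : F, x ^ 2 ≠ d := by
        obtain ⟨g, hg⟩ := FiniteField.exists_nonsquare (F := F) (ringChar_ne h2)
        by_cases h3 : g = -1
        · obtain ⟨b, hb0, hb1, hb2⟩ := exists_ne_three hq (0 : F) 1 (-1)
          refine ⟨-b ^ 2, ?_, ?_⟩
          · intro h
            rcases mul_self_eq_one_iff.1 (show b * b = 1 by linear_combination -h) with h | h
            · exact hb1 h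
            · exact hb2 h
          · intro x hx
            apply hg
            rw [h3]
            refine ⟨x / b, ?_⟩
            field_simp
            linear_combination -hx
        · exact ⟨g, h3, fun x hx => hg ⟨x, by rw [← hx]; ring⟩⟩
      obtain ⟨d, hd, hsq⟩ := hns
      have hd0 : d ≠ 0 := fun h => hsq 0 (by rw [h]; ring)
      refine ⟨d, hd0, fun h => hsq 1 (by rw [h]; ring), hd, Or.inl ?_⟩
      have h3 := card_NR hd0
      rw [Finset.filter_false_of_mem fun x _ => hsq x, Finset.card_empty] at h3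
      have h4 := FiniteField.odd_card_of_char_ne_two (F := F) (ringChar_ne h2)
      omega
  have hm : (1 + d⁻¹) ≠ 0 := by
    intro h
    apply hd2
    field_simp at h
    linear_combination h
  obtain ⟨s, hs, s', hs', hne⟩ := exists_sq_ne hS 0 (1 + d⁻¹) hm
  rw [zero_add, zero_add] at hne
  refine ⟨_, _, fun h => hne ?_, ell_S cs (p := p) hd0 (mem_NR.1 hs) hd1 hd2,
    ell_S cs (p := p) hd0 (mem_NR.1 hs') hd1 hd2⟩
  have := trace_sq_of_isConj h
  rwa [tr_S, tr_S] at this

/-- **Two classes of long elliptic elements.** -/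
theorem exists_L {p : ℕ} [Fact p.Prime] [CharP F p] (hq : Nat.card F = 4 ∨ 7 ≤ Nat.card F) :
    ∃ t t' : PSp 2 F, ¬ IsConj t t' ∧
    Ell cs (isCartan 2) (WittModel.T (KInstSp.model 2 F)) (WittModel.X (KInstSp.model 2 F)) {0}ᶜ t ∧
    Ell cs (isCartan 2) (WittModel.T (KInstSp.model 2 F)) (WittModel.X (KInstSp.model 2 F)) {0}ᶜ t' := by
  classical
  have : Fintype F := Fintype.ofFinite F
  rw [Nat.card_eq_fintype_card] at hq
  obtain ⟨a, ha0, ha1, ha2⟩ := exists_ne_three (by omega) (0 : F) 1 (-1)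
  have hsq : a ^ 2 ≠ 1 := fun h => by
    rcases mul_self_eq_one_iff.1 (show a * a = 1 by linear_combination h) with h | h
    · exact ha1 h
    · exact ha2 h
  have hS : 3 ≤ (NR (1 : F)).card ∨ ((2 : F) = 0 ∧ 2 ≤ (NR (1 : F)).card) := by
    have h3 := card_NR (one_ne_zero (α := F))
    by_cases h2 : (2 : F) = 0
    · have := card_sq_le_one h2 1
      exact Or.inr ⟨h2, by omega⟩
    · have := card_sq_le_two (1 : F)
      have h4 := FiniteField.odd_card_of_char_ne_two (F := F) (ringChar_ne h2)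
      left
      omega
  obtain ⟨s, hs, s', hs', hne⟩ := exists_sq_ne hS (a + a⁻¹) 1 one_ne_zero
  rw [one_mul, one_mul] at hne
  refine ⟨_, _, fun h => hne ?_, ell_L cs (p := p) ha0 (mem_NR.1 hs) hsq,
    ell_L cs (p := p) ha0 (mem_NR.1 hs') hsq⟩
  have := trace_sq_of_isConj h
  rwa [tr_L, tr_L] at this

end main

end Cfsg.Agent.H769.OZ
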