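import Cfsg.Agent.H769.OZ.SpCls
import Cfsg.Agent.H985.VZ.Frame

/-!
# The Weyl group of type `C₂` and the `T`-characters of `PSp₄(q)` (helper769, S4842)
-/

set_option autoImplicit false
set_option linter.unusedSectionVars false

namespace Cfsg.Agent.H769.OZ

open CoxeterSystem Cfsg Cfsg.Agent.ChevalleyStructure.CoxeterGeom Cfsg.Agent.Tits.Roots Cfsg.Agent.Nodes.TypeC
open Cfsg.Agent.Tits.Core
open Cfsg.Agent.Nodes Cfsg.Agent.Nodes.Comb Cfsg.Agent.Nodes.Reps Cfsg.Agent.Nodes.WittRoot Cfsg.Agent.Nodes.BNOf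
open Cfsg.Agent.H985.VZ

/-! ### Combinatorics of `C₂` -/

section comb

variable {W : Type*} [Group W] (cs : CoxeterSystem (CoxeterMatrix.B 2) W)

theorem short_rep (w : W) : ∃ c d : Fin 2 × Bool, c.1 ≠ d.1 ∧ ee (rep cs (isCartan 2) w (sr 0)) = wt c + wt d := by
  induction w using cs.simple_induction_left with
  | one =>
    refine ⟨(0, true), nx 0, ?_, ?_⟩
    · decide
    · rw [map_one, Module.End.one_apply, ee_sr]
      rfl
  | mul_simple_left w i ih =>
    obtain ⟨c, d, hcd, e⟩ := ih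
    refine ⟨sg i c, sg i d, fun h => hcd ((sg_fst_eq i).1 h), ?_⟩
    rw [rep_mul_apply, rep_simple]
    exact ee_refl_of e

/-- the simple roots are not conjugate -/
theorem rep_ne (w : W) : rep cs (isCartan 2) w (sr 0) ≠ sr 1 := by
  intro h
  obtain ⟨c, d, hcd, e⟩ := short_rep cs w
  rw [h, ee_sr] at e
  have h1 : bt (1 : Fin 2) = wt ((1 : Fin 2), true) + wt ((1 : Fin 2), true) := rfl
  rw [h1] at e
  rcases wt_add_eq (Or.inr rfl) (Or.inl hcd) e with ⟨h2, h3⟩ | ⟨h2, h3⟩
  · exact hcd (by rw [← h2, ← h3])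
  · exact hcd (by rw [← h2, ← h3])

theorem braid4 : cs.simple 1 * (cs.simple 0 * cs.simple 1 * cs.simple 0) * cs.simple 1 =
    cs.simple 0 * cs.simple 1 * cs.simple 0 := by
  have h1 := cs.simple_mul_simple_pow 0 1
  have h2 : CoxeterMatrix.B 2 0 1 = 4 := by decide
  rw [h2] at h1
  have h0 : cs.simple 0 * cs.simple 0 = 1 := cs.simple_mul_simple_self 0
  have h3 : cs.simple 1 * cs.simple 1 = 1 := cs.simple_mul_simple_self 1
  have i0 : (cs.simple 0)⁻¹ = cs.simple 0 := cs.inv_simple 0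
  have i1 : (cs.simple 1)⁻¹ = cs.simple 1 := cs.inv_simple 1
  have e : (cs.simple 0 * cs.simple 1) ^ 4 = (cs.simple 0 * cs.simple 1 * cs.simple 0) *
      (cs.simple 1 * (cs.simple 0 * cs.simple 1 * cs.simple 0) * cs.simple 1) := by
    simp only [pow_succ, pow_zero, one_mul, mul_assoc]
  rw [e] at h1
  have h4 := eq_inv_of_mul_eq_one_right h1
  rw [h4, mul_inv_rev, mul_inv_rev, i0, i1, mul_assoc]

/-- the conjugates of the long simple reflection -/
theorem conj_long (w : W) : w⁻¹ * cs.simple 1 * w = cs.simple 1 ∨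
    w⁻¹ * cs.simple 1 * w = cs.simple 0 * cs.simple 1 * cs.simple 0 := by
  have i0 : (cs.simple 0)⁻¹ = cs.simple 0 := cs.inv_simple 0
  have i1 : (cs.simple 1)⁻¹ = cs.simple 1 := cs.inv_simple 1
  have h0 : cs.simple 0 * cs.simple 0 = 1 := cs.simple_mul_simple_self 0
  have h3 : cs.simple 1 * cs.simple 1 = 1 := cs.simple_mul_simple_self 1
  induction w using cs.simple_induction_right with
  | one => left; simp
  | mul_simple_right w i ih =>
    have e : (w * cs.simple i)⁻¹ * cs.simple 1 * (w * cs.simple i) =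
        (cs.simple i)⁻¹ * (w⁻¹ * cs.simple 1 * w) * cs.simple i := by group
    rw [e]
    fin_cases i
    · rcases ih with h | h
      · right
        rw [h]
        change (cs.simple 0)⁻¹ * cs.simple 1 * cs.simple 0 = _
        rw [i0]
      · left
        rw [h]
        change (cs.simple 0)⁻¹ * (cs.simple 0 * cs.simple 1 * cs.simple 0) * cs.simple 0 = _
        rw [mul_assoc, mul_assoc (cs.simple 0 * cs.simple 1), h0, mul_one, ← mul_assoc, inv_mul_cancel, one_mul]
    · rcases ih with h | h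
      · left
        rw [h]
        change (cs.simple 1)⁻¹ * cs.simple 1 * cs.simple 1 = _
        rw [inv_mul_cancel, one_mul]
      · right
        rw [h]
        change (cs.simple 1)⁻¹ * (cs.simple 0 * cs.simple 1 * cs.simple 0) * cs.simple 1 = _
        rw [i1]
        exact braid4 cs

theorem B2_zero_one : CoxeterMatrix.B 2 0 1 = 2 * 2 := by decide

end comb

/-! ### The `T`-characters -/

section chars

variable {W Y : Type*} [Group W] [Group Y] {cs : CoxeterSystem (CoxeterMatrix.B 2) W} {T : Subgroup Y} {n : Fin 2 → Y}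
  {hN : NSys (CoxeterMatrix.B 2) T n}

/-- a character fixed by the short simple reflection, with a conjugate fixed by the long one, is fixed by both -/
theorem fix_both {l l' : T →* ℂˣ} {w : W} (h0 : Mv cs hN (cs.simple 0) l l) (hw : Mv cs hN w l l')
    (h1 : Mv cs hN (cs.simple 1) l' l') : Mv cs hN (cs.simple 1) l l := by
  have h2 : Mv cs hN (w⁻¹ * cs.simple 1 * w) l l := by
    rw [mul_assoc]
    exact (hw.mul h1).mul hw.inv
  rcases conj_long cs w with h | h
  · rwa [h] at h2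
  · rw [h] at h2
    have h3 : Mv cs hN (cs.simple 0 * (cs.simple 0 * cs.simple 1 * cs.simple 0) * cs.simple 0) l l := by
      have := (h0.mul h2).mul h0
      rwa [← mul_assoc] at this
    have e : cs.simple 0 * (cs.simple 0 * cs.simple 1 * cs.simple 0) * cs.simple 0 = cs.simple 1 := by
      have k0 : cs.simple 0 * cs.simple 0 = 1 := cs.simple_mul_simple_self 0
      rw [mul_assoc, mul_assoc (cs.simple 0 * cs.simple 1), k0, mul_one, ← mul_assoc, k0, one_mul]
    rwa [e] at h3

end chars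

/-! ### Arithmetic -/

theorem arith {q d : ℕ} (hq : 2 ≤ q) {ya yb : ℂ} (ha : ya = q ∨ ya = (q : ℂ)⁻¹ ∨ ya = 1)
    (hb : yb = q ∨ yb = (q : ℂ)⁻¹ ∨ yb = 1)
    (h : (d : ℂ) * ((1 + ya) * (1 + yb) * ∑ i ∈ Finset.range 2, (ya * yb) ^ i) =
      (1 + q : ℂ) * (1 + q) * ∑ i ∈ Finset.range 2, ((q : ℂ) * q) ^ i) :
    d = 1 ∨ d = q ^ 4 ∨ q ^ 2 + 1 ∣ 8 * d := by
  have hq0 : (q : ℂ) ≠ 0 := by exact_mod_cast (by omega : q ≠ 0)
  have hq1 : (1 + q : ℂ) ≠ 0 := by exact_mod_cast (by omega : 1 + q ≠ 0)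
  have hq2 : (1 + (q : ℂ) ^ 2) ≠ 0 := by exact_mod_cast (by positivity : 1 + q ^ 2 ≠ 0)
  simp only [Finset.sum_range_succ, Finset.sum_range_zero, pow_zero, pow_one, zero_add] at h
  have mix : ∀ N : ℕ, (8 * d : ℂ) = N * (q ^ 2 + 1) → q ^ 2 + 1 ∣ 8 * d := by
    intro N hN
    refine ⟨N, ?_⟩
    have : ((8 * d : ℕ) : ℂ) = (((q ^ 2 + 1) * N : ℕ) : ℂ) := by
      push_cast
      rw [hN]
      ring
    exact_mod_cast this
  rcases ha with rfl | rfl | rfl <;> rcases hb with rfl | rfl | rfl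
  · left
    have h1 : ((1 + q : ℂ) * (1 + q) * (1 + q ^ 2)) * (d - 1) = 0 := by linear_combination h
    have h2 := (mul_eq_zero.1 h1).resolve_left (mul_ne_zero (mul_ne_zero hq1 hq1) hq2)
    exact_mod_cast sub_eq_zero.1 h2
  · right; right
    apply mix (4 * q)
    rw [mul_inv_cancel₀ hq0] at h
    field_simp at h
    push_cast
    have h1 : (1 + q : ℂ) * (8 * d - 4 * q * (q ^ 2 + 1)) = 0 := by linear_combination 4 * h
    exact sub_eq_zero.1 ((mul_eq_zero.1 h1).resolve_left hq1)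
  · right; right
    apply mix 4
    push_cast
    have h1 : (1 + q : ℂ) * ((1 + q) * (8 * d - 4 * (q ^ 2 + 1))) = 0 := by linear_combination 4 * h
    exact sub_eq_zero.1 ((mul_eq_zero.1 ((mul_eq_zero.1 h1).resolve_left hq1)).resolve_left hq1)
  · right; right
    apply mix (4 * q)
    rw [inv_mul_cancel₀ hq0] at h
    field_simp at h
    push_cast
    have h1 : (1 + q : ℂ) * (8 * d - 4 * q * (q ^ 2 + 1)) = 0 := by linear_combination 4 * h
    exact sub_eq_zero.1 ((mul_eq_zero.1 h1).resolve_left hq1)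
  · right; left
    field_simp at h
    have h1 : ((1 + q : ℂ) * (1 + q) * (1 + q ^ 2)) * (d - q ^ 4) = 0 := by linear_combination h
    have h2 := (mul_eq_zero.1 h1).resolve_left (mul_ne_zero (mul_ne_zero hq1 hq1) hq2)
    exact_mod_cast sub_eq_zero.1 h2
  · right; right
    apply mix (4 * q ^ 2)
    field_simp at h
    push_cast
    have h1 : (1 + q : ℂ) * ((1 + q) * (8 * d - 4 * q ^ 2 * (q ^ 2 + 1))) = 0 := by linear_combination 4 * h
    exact sub_eq_zero.1 ((mul_eq_zero.1 ((mul_eq_zero.1 h1).resolve_left hq1)).resolve_left hq1)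
  · right; right
    apply mix 4
    push_cast
    have h1 : (1 + q : ℂ) * ((1 + q) * (8 * d - 4 * (q ^ 2 + 1))) = 0 := by linear_combination 4 * h
    exact sub_eq_zero.1 ((mul_eq_zero.1 ((mul_eq_zero.1 h1).resolve_left hq1)).resolve_left hq1)
  · right; right
    apply mix (4 * q ^ 2)
    field_simp at h
    push_cast
    have h1 : (1 + q : ℂ) * ((1 + q) * (8 * d - 4 * q ^ 2 * (q ^ 2 + 1))) = 0 := by linear_combination 4 * h
    exact sub_eq_zero.1 ((mul_eq_zero.1 ((mul_eq_zero.1 h1).resolve_left hq1)).resolve_left hq1)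
  · right; right
    apply mix ((1 + q) ^ 2)
    push_cast
    linear_combination h

end Cfsg.Agent.H769.OZ
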