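import Cfsg.Agent.H769.OZ.Levi
import Cfsg.Agent.TitsThree.KInstSp
import Cfsg.Agent.Nodes.WittU

/-!
# Elliptic elements of the two Levi subgroups of `PSp₄(q)` (helper769, S4842)

* `tS s d` : on `⟨e₀, e₁⟩` with characteristic polynomial `x² - s x + d`; `tL a s` : `a` on `e₀`, `x² - s x + 1` on
  `⟨e₁, f₁⟩`;
* `ell_S`, `ell_L` : they are elliptic.
-/

set_option autoImplicit false
set_option linter.unusedSectionVars false

namespace Cfsg.Agent.H769.OZ

open Cfsg Cfsg.Agent.ChevalleyStructure.CoxeterGeom Cfsg.Agent.Tits.Roots Cfsg.Agent.Nodes.TypeC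
open Cfsg.Agent.Nodes Cfsg.Agent.Nodes.Comb Cfsg.Agent.Nodes.Reps Cfsg.Agent.Nodes.WittRoot Cfsg.Agent.Nodes.BNOf
open Cfsg.Agent.Nodes.WittRGD Cfsg.Agent.Nodes.RGDLib Cfsg.Agent.Nodes.WittAll Cfsg.Agent.Nodes.StabComb
open Cfsg.Agent.Nodes.Bruhat Cfsg.Agent.Nodes.OppDec Cfsg.Agent.Nodes.LeviDec
open Cfsg.Agent.TitsThree Cfsg.Agent.TitsThree.Siegel Cfsg.Agent.TitsThree.WittFrame
  Cfsg.Agent.TitsThree.WittWeyl Cfsg.Agent.TitsThree.FrameCN Cfsg.Agent.TitsThree.SpIdent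
open Cfsg.Agent.H985.VZ Cfsg.Agent.ClassicalGeometry

variable {F : Type*} [Field F]

/-- the symplectic space of dimension four -/
abbrev V4 (F : Type*) := Fin 2 ⊕ Fin 2 → F

theorem ext4 {v w : V4 F} (h0 : v (Sum.inl 0) = w (Sum.inl 0)) (h1 : v (Sum.inl 1) = w (Sum.inl 1))
    (h2 : v (Sum.inr 0) = w (Sum.inr 0)) (h3 : v (Sum.inr 1) = w (Sum.inr 1)) : v = w := by
  funext i
  rcases i with i | i <;> fin_cases i
  · exact h0
  · exact h1
  · exact h2
  · exact h3

/-- vectors by coordinates `y₀ y₁ x₀ x₁` -/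
def mk4 (y0 y1 x0 x1 : F) : V4 F := Sum.elim ![y0, y1] ![x0, x1]

@[simp] theorem mk4_l0 (y0 y1 x0 x1 : F) : mk4 y0 y1 x0 x1 (Sum.inl 0) = y0 := rfl
@[simp] theorem mk4_l1 (y0 y1 x0 x1 : F) : mk4 y0 y1 x0 x1 (Sum.inl 1) = y1 := rfl
@[simp] theorem mk4_r0 (y0 y1 x0 x1 : F) : mk4 y0 y1 x0 x1 (Sum.inr 0) = x0 := rfl
@[simp] theorem mk4_r1 (y0 y1 x0 x1 : F) : mk4 y0 y1 x0 x1 (Sum.inr 1) = x1 := rfl

theorem form4 (v w : V4 F) : (form 2 F).h v w = v (Sum.inr 0) * w (Sum.inl 0) - v (Sum.inl 0) * w (Sum.inr 0) +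
    (v (Sum.inr 1) * w (Sum.inl 1) - v (Sum.inl 1) * w (Sum.inr 1)) := by
  rw [form_h, Cfsg.Agent.ClassicalGeometry.SympBasic.sympForm_eq_sum, Fin.sum_univ_two]

/-- the short element -/
def tS (s d : F) (hd : d ≠ 0) : V4 F ≃ₗ[F] V4 F where
  toFun v := mk4 (d⁻¹ * (s * v (Sum.inl 0) - v (Sum.inl 1))) (v (Sum.inl 0)) (-(d * v (Sum.inr 1)))
    (v (Sum.inr 0) + s * v (Sum.inr 1))
  invFun w := mk4 (w (Sum.inl 1)) (s * w (Sum.inl 1) - d * w (Sum.inl 0)) (w (Sum.inr 1) + s * (d⁻¹ * w (Sum.inr 0)))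
    (-(d⁻¹ * w (Sum.inr 0)))
  map_add' v w := by apply ext4 <;> simp <;> ring
  map_smul' c v := by apply ext4 <;> simp <;> ring
  left_inv v := by
    apply ext4 <;> simp only [mk4_l0, mk4_l1, mk4_r0, mk4_r1] <;> field_simp <;> ring
  right_inv v := by
    apply ext4 <;> simp only [mk4_l0, mk4_l1, mk4_r0, mk4_r1] <;> field_simp <;> ring

/-- the long element -/
def tL (a s : F) (ha : a ≠ 0) : V4 F ≃ₗ[F] V4 F where
  toFun v := mk4 (a⁻¹ * v (Sum.inl 0)) (v (Sum.inr 1) + s * v (Sum.inl 1)) (a * v (Sum.inr 0)) (-v (Sum.inl 1))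
  invFun w := mk4 (a * w (Sum.inl 0)) (-w (Sum.inr 1)) (a⁻¹ * w (Sum.inr 0)) (w (Sum.inl 1) + s * w (Sum.inr 1))
  map_add' v w := by apply ext4 <;> simp <;> ring
  map_smul' c v := by apply ext4 <;> simp <;> ring
  left_inv v := by
    apply ext4 <;> simp only [mk4_l0, mk4_l1, mk4_r0, mk4_r1] <;> field_simp <;> ring
  right_inv v := by
    apply ext4 <;> simp only [mk4_l0, mk4_l1, mk4_r0, mk4_r1] <;> field_simp <;> ring

theorem tS_apply (s d : F) (hd : d ≠ 0) (v : V4 F) : tS s d hd v =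
    mk4 (d⁻¹ * (s * v (Sum.inl 0) - v (Sum.inl 1))) (v (Sum.inl 0)) (-(d * v (Sum.inr 1)))
    (v (Sum.inr 0) + s * v (Sum.inr 1)) := rfl

theorem tL_apply (a s : F) (ha : a ≠ 0) (v : V4 F) : tL a s ha v =
    mk4 (a⁻¹ * v (Sum.inl 0)) (v (Sum.inr 1) + s * v (Sum.inl 1)) (a * v (Sum.inr 0)) (-v (Sum.inl 1)) := rfl

theorem tS_mem (s d : F) (hd : d ≠ 0) : tS s d hd ∈ isos (form 2 F) := by
  intro v w
  rw [form4, form4, tS_apply, tS_apply]
  simp only [mk4_l0, mk4_l1, mk4_r0, mk4_r1]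
  field_simp
  ring

theorem tL_mem (a s : F) (ha : a ≠ 0) : tL a s ha ∈ isos (form 2 F) := by
  intro v w
  rw [form4, form4, tL_apply, tL_apply]
  simp only [mk4_l0, mk4_l1, mk4_r0, mk4_r1]
  field_simp
  ring

/-! ### The subspaces -/

theorem e4 (i : Fin 2) : (frame 2 F).b (i, true) = Pi.single (Sum.inr i) 1 := rfl
theorem f4 (i : Fin 2) : (frame 2 F).b (i, false) = Pi.single (Sum.inl i) 1 := rfl

theorem mem_E1t {v : V4 F} : v ∈ E (frame 2 F) 1 true ↔ v (Sum.inl 0) = 0 ∧ v (Sum.inl 1) = 0 := by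
  constructor
  · intro h
    have h0 := h_E_zero (Fr := frame 2 F) (k := 1) (s := true) (x := (0, true)) (Or.inl rfl) h
    have h1 := h_E_zero (Fr := frame 2 F) (k := 1) (s := true) (x := (1, true)) (Or.inl rfl) h
    rw [form4, e4] at h0 h1
    simp at h0 h1
    exact ⟨h0, h1⟩
  · rintro ⟨h0, h1⟩
    have e : v = v (Sum.inr 0) • (frame 2 F).b (0, true) + v (Sum.inr 1) • (frame 2 F).b (1, true) := by
      rw [e4, e4]
      apply ext4 <;> simp [h0, h1]
    rw [e]
    exact add_mem (Submodule.smul_mem _ _ (b_mem_E (by decide) _)) (Submodule.smul_mem _ _ (b_mem_E le_rfl _))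

theorem mem_E1f {v : V4 F} : v ∈ E (frame 2 F) 1 false ↔ v (Sum.inr 0) = 0 ∧ v (Sum.inr 1) = 0 := by
  constructor
  · intro h
    have h0 := h_E_zero (Fr := frame 2 F) (k := 1) (s := false) (x := (0, false)) (Or.inl rfl) h
    have h1 := h_E_zero (Fr := frame 2 F) (k := 1) (s := false) (x := (1, false)) (Or.inl rfl) h
    rw [form4, f4] at h0 h1
    simp at h0 h1
    exact ⟨h0, h1⟩
  · rintro ⟨h0, h1⟩
    have e : v = v (Sum.inl 0) • (frame 2 F).b (0, false) + v (Sum.inl 1) • (frame 2 F).b (1, false) := by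
      rw [f4, f4]
      apply ext4 <;> simp [h0, h1]
    rw [e]
    exact add_mem (Submodule.smul_mem _ _ (b_mem_E (by decide) _)) (Submodule.smul_mem _ _ (b_mem_E le_rfl _))

theorem mem_E0t {v : V4 F} : v ∈ E (frame 2 F) 0 true ↔
    v (Sum.inl 0) = 0 ∧ v (Sum.inl 1) = 0 ∧ v (Sum.inr 1) = 0 := by
  constructor
  · intro h
    have h0 := h_E_zero (Fr := frame 2 F) (k := 0) (s := true) (x := (0, true)) (Or.inl rfl) h
    have h1 := h_E_zero (Fr := frame 2 F) (k := 0) (s := true) (x := (1, true)) (Or.inl rfl) h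
    have h2 := h_E_zero (Fr := frame 2 F) (k := 0) (s := true) (x := (1, false)) (Or.inr (by decide)) h
    rw [form4, e4] at h0 h1
    rw [form4, f4] at h2
    simp at h0 h1 h2
    exact ⟨h0, h1, h2⟩
  · rintro ⟨h0, h1, h2⟩
    have e : v = v (Sum.inr 0) • (frame 2 F).b (0, true) := by
      rw [e4]
      apply ext4 <;> simp [h0, h1, h2]
    rw [e]
    exact Submodule.smul_mem _ _ (b_mem_E le_rfl _)

theorem mem_E0f {v : V4 F} : v ∈ E (frame 2 F) 0 false ↔
    v (Sum.inr 0) = 0 ∧ v (Sum.inl 1) = 0 ∧ v (Sum.inr 1) = 0 := by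
  constructor
  · intro h
    have h0 := h_E_zero (Fr := frame 2 F) (k := 0) (s := false) (x := (0, false)) (Or.inl rfl) h
    have h1 := h_E_zero (Fr := frame 2 F) (k := 0) (s := false) (x := (1, true)) (Or.inr (by decide)) h
    have h2 := h_E_zero (Fr := frame 2 F) (k := 0) (s := false) (x := (1, false)) (Or.inl rfl) h
    rw [form4, f4] at h0 h2
    rw [form4, e4] at h1
    simp at h0 h1 h2
    exact ⟨h0, h1, h2⟩
  · rintro ⟨h0, h1, h2⟩
    have e : v = v (Sum.inl 0) • (frame 2 F).b (0, false) := by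
      rw [f4]
      apply ext4 <;> simp [h0, h1, h2]
    rw [e]
    exact Submodule.smul_mem _ _ (b_mem_E le_rfl _)

theorem nondeg4 (v : V4 F) (h : ∀ w, (form 2 F).h v w = 0) : v = 0 := by
  have h0 := h (mk4 1 0 0 0)
  have h1 := h (mk4 0 1 0 0)
  have h2 := h (mk4 0 0 1 0)
  have h3 := h (mk4 0 0 0 1)
  rw [form4] at h0 h1 h2 h3
  simp at h0 h1 h2 h3
  exact ext4 h2 h3 h0 h1

/-! ### Elliptic elements -/

section ell

variable [Finite F] {W : Type*} [Group W] (cs : CoxeterSystem (CoxeterMatrix.B 2) W)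

theorem GG_eq (n : ℕ) (hn : 0 < n) {W : Type*} [Group W] (cs : CoxeterSystem (CoxeterMatrix.B n) W) :
    GG cs (isCartan n) (WittModel.T (KInstSp.model n F)) (WittModel.X (KInstSp.model n F)) = ⊤ := by
  rw [eq_top_iff, ← WittModel.G1_eq_top (KInstSp.model n F) hn cs]
  exact le_sup_right

theorem aeval2 (τ : Module.End F (V4 F)) (s d : F) (w : V4 F) :
    Polynomial.aeval τ (Polynomial.X ^ 2 - Polynomial.C s * Polynomial.X + Polynomial.C d) w =
      τ (τ w) - s • τ w + d • w := by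
  simp only [map_add, map_sub, map_mul, map_pow, Polynomial.aeval_X, Polynomial.aeval_C]
  rw [LinearMap.add_apply, LinearMap.sub_apply, pow_two, Module.End.mul_apply, Module.End.mul_apply,
    Module.algebraMap_end_apply, Module.algebraMap_end_apply]

theorem aeval1 (τ : Module.End F (V4 F)) (a : F) (w : V4 F) :
    Polynomial.aeval τ (Polynomial.X - Polynomial.C a) w = τ w - a • w := by
  simp only [map_sub, Polynomial.aeval_X, Polynomial.aeval_C]
  rw [LinearMap.sub_apply, Module.algebraMap_end_apply]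

/-- **The short elliptic elements.** -/
theorem ell_S {p : ℕ} [Fact p.Prime] [CharP F p] {s d : F} (hd : d ≠ 0) (hroot : ∀ x : F, x ^ 2 - s * x + d ≠ 0)
    (h1 : d ≠ 1) (h2 : d ≠ -1) :
    Ell cs (isCartan 2) (WittModel.T (KInstSp.model 2 F)) (WittModel.X (KInstSp.model 2 F)) {1}ᶜ
      (toPSp ⟨tS s d hd, tS_mem s d hd⟩) := by
  have hA : AmbT (frame 2 F) p (KInstSp.model 2 F).I := AmbT.of_amb WittU.amb_Sp p
  -- the quadratic form `x² + s x y + d y²` is anisotropic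
  have hq : ∀ x y : F, x ^ 2 + s * x * y + d * y ^ 2 = 0 → x = 0 ∧ y = 0 := by
    intro x y h
    by_cases hy : y = 0
    · subst hy
      refine ⟨?_, rfl⟩
      simpa using h
    · exfalso
      apply hroot (-(x / y))
      field_simp
      linear_combination h
  refine ell_of (KInstSp.model 2 F) cs hA (p0 := adm 1) one_ne_zero (GG_eq 2 (by norm_num) cs) nondeg4
    (t := ⟨tS s d hd, tS_mem s d hd⟩) (k := 1) ?_ ?_ (Polynomial.X ^ 2 - Polynomial.C s * Polynomial.X + Polynomial.C d)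
    ?_ ?_ ?_ ?_
  · refine mem_StE_of_finite fun v hv => ?_
    rw [mem_E1t] at hv ⊢
    rw [tS_apply]
    simp [hv.1, hv.2]
  · refine mem_StE_of_finite fun v hv => ?_
    rw [mem_E1f] at hv ⊢
    rw [tS_apply]
    simp [hv.1, hv.2]
  · intro w hw
    rw [aeval2] at hw
    have e : ∀ v : V4 F, ((tS s d hd : V4 F ≃ₗ[F] V4 F) : Module.End F (V4 F)) v = tS s d hd v := fun _ => rfl
    rw [e, e, tS_apply, tS_apply] at hw
    have w0 := congrFun hw (Sum.inl 0)
    have w1 := congrFun hw (Sum.inl 1)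
    simp at w0 w1
    field_simp at w0 w1
    rw [mem_E1t]
    -- `y = (y₀, y₁)`
    set y0 := w (Sum.inl 0)
    set y1 := w (Sum.inl 1)
    have k0 : (1 - d) * (s * (s * y0 - y1) - d * (1 + d) * y0) = 0 := by linear_combination w0
    have k1 : (1 - d) * (s * y0 - (1 + d) * y1) = 0 := by linear_combination w1
    have hd1 : (1 - d) ≠ 0 := sub_ne_zero.2 (Ne.symm h1)
    have m0 := (mul_eq_zero.1 k0).resolve_left hd1
    have m1 := (mul_eq_zero.1 k1).resolve_left hd1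
    have hd2 : 1 + d ≠ 0 := fun h => h2 (by linear_combination h)
    -- `d y₀² - s y₀ y₁ + y₁² = 0`
    have key : (1 + d) * (y1 ^ 2 + s * y1 * (-y0) + d * (-y0) ^ 2) = 0 := by
      linear_combination y0 * (-m0) + 0 * m1 + (s * y0 - y1) * m1
    have := hq _ _ ((mul_eq_zero.1 key).resolve_left hd2)
    exact ⟨neg_eq_zero.1 this.2, this.1⟩
  · intro w hw
    rw [mem_E1t] at hw
    rw [aeval2]
    have e : ∀ v : V4 F, ((tS s d hd : V4 F ≃ₗ[F] V4 F) : Module.End F (V4 F)) v = tS s d hd v := fun _ => rfl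
    rw [e, e, tS_apply, tS_apply]
    apply ext4 <;> simp [hw.1, hw.2] <;> ring
  · intro D hD hDt
    by_cases h0 : D = ⊥
    · exact Or.inl h0
    · right
      refine le_antisymm hD ?_
      obtain ⟨w, hw, hw0⟩ := Submodule.exists_mem_ne_zero_of_ne_bot h0
      have h3 := mem_E1t.1 (hD hw)
      have h4 := hDt w hw
      set x0 := w (Sum.inr 0) with hx0
      set x1 := w (Sum.inr 1) with hx1
      have hdet : x0 ^ 2 + s * x0 * x1 + d * x1 ^ 2 ≠ 0 := by
        intro h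
        have h5 := hq _ _ h
        exact hw0 (ext4 h3.1 h3.2 h5.1 h5.2)
      intro v hv
      rw [mem_E1t] at hv
      have e : v = ((x0 ^ 2 + s * x0 * x1 + d * x1 ^ 2)⁻¹ * (v (Sum.inr 0) * (x0 + s * x1) + d * v (Sum.inr 1) * x1)) • w +
          ((x0 ^ 2 + s * x0 * x1 + d * x1 ^ 2)⁻¹ * (x0 * v (Sum.inr 1) - x1 * v (Sum.inr 0))) • tS s d hd w := by
        rw [tS_apply]
        apply ext4
        · simp [hv.1, h3.1, h3.2]
        · simp [hv.2, h3.1, h3.2]
        · simp only [Pi.add_apply, Pi.smul_apply, mk4_r0, smul_eq_mul, ← hx0, ← hx1]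
          have hQ := inv_mul_cancel₀ hdet
          linear_combination (-v (Sum.inr 0)) * hQ
        · simp only [Pi.add_apply, Pi.smul_apply, mk4_r1, smul_eq_mul, ← hx0, ← hx1]
          have hQ := inv_mul_cancel₀ hdet
          linear_combination (-v (Sum.inr 1)) * hQ
      rw [e]
      exact add_mem (Submodule.smul_mem _ _ hw) (Submodule.smul_mem _ _ h4)
  · intro D hD hiso _
    refine le_antisymm ?_ hD
    intro v hv
    have h3 := hiso v hv _ (hD (b_mem_E (Fr := frame 2 F) (k := 1) (i := 0) (by decide) true))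
    have h4 := hiso v hv _ (hD (b_mem_E (Fr := frame 2 F) (k := 1) (i := 1) le_rfl true))
    rw [form4, e4] at h3 h4
    simp at h3 h4
    exact mem_E1t.2 ⟨h3, h4⟩

/-- **The long elliptic elements.** -/
theorem ell_L {p : ℕ} [Fact p.Prime] [CharP F p] {a s : F} (ha : a ≠ 0) (hroot : ∀ x : F, x ^ 2 - s * x + 1 ≠ 0)
    (h1 : a ^ 2 ≠ 1) :
    Ell cs (isCartan 2) (WittModel.T (KInstSp.model 2 F)) (WittModel.X (KInstSp.model 2 F)) {0}ᶜ
      (toPSp ⟨tL a s ha, tL_mem a s ha⟩) := by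
  have hA : AmbT (frame 2 F) p (KInstSp.model 2 F).I := AmbT.of_amb WittU.amb_Sp p
  have hq : ∀ x y : F, x ^ 2 + s * x * y + y ^ 2 = 0 → x = 0 ∧ y = 0 := by
    intro x y h
    by_cases hy : y = 0
    · subst hy
      refine ⟨?_, rfl⟩
      simpa using h
    · exfalso
      apply hroot (-(x / y))
      field_simp
      linear_combination h
  refine ell_of (KInstSp.model 2 F) cs hA (p0 := adm 1) one_ne_zero (GG_eq 2 (by norm_num) cs) nondeg4
    (t := ⟨tL a s ha, tL_mem a s ha⟩) (k := 0) ?_ ?_ (Polynomial.X - Polynomial.C a)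
    ?_ ?_ ?_ ?_
  · refine mem_StE_of_finite fun v hv => ?_
    rw [mem_E0t] at hv ⊢
    rw [tL_apply]
    simp [hv.1, hv.2.1, hv.2.2]
  · refine mem_StE_of_finite fun v hv => ?_
    rw [mem_E0f] at hv ⊢
    rw [tL_apply]
    simp [hv.1, hv.2.1, hv.2.2]
  · intro w hw
    rw [aeval1] at hw
    have e : ∀ v : V4 F, ((tL a s ha : V4 F ≃ₗ[F] V4 F) : Module.End F (V4 F)) v = tL a s ha v := fun _ => rfl
    rw [e, tL_apply] at hw
    have w0 := congrFun hw (Sum.inl 0)
    have w1 := congrFun hw (Sum.inl 1)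
    have w2 := congrFun hw (Sum.inr 1)
    simp at w0 w1 w2
    rw [mem_E0t]
    have k0 : (1 - a ^ 2) * w (Sum.inl 0) = 0 := by
      field_simp at w0
      linear_combination w0
    have k1 : (a ^ 2 - s * a + 1) * w (Sum.inr 1) = 0 := by
      linear_combination w1 + (s - a) * w2
    have m0 := (mul_eq_zero.1 k0).resolve_left (sub_ne_zero.2 (Ne.symm h1))
    have m1 := (mul_eq_zero.1 k1).resolve_left (hroot a)
    refine ⟨m0, ?_, m1⟩
    rw [m1] at w2
    linear_combination -w2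
  · intro w hw
    rw [mem_E0t] at hw
    rw [aeval1]
    have e : ∀ v : V4 F, ((tL a s ha : V4 F ≃ₗ[F] V4 F) : Module.End F (V4 F)) v = tL a s ha v := fun _ => rfl
    rw [e, tL_apply]
    apply ext4 <;> simp [hw.1, hw.2.1, hw.2.2]
  · intro D hD _
    by_cases h0 : D = ⊥
    · exact Or.inl h0
    · right
      refine le_antisymm hD ?_
      obtain ⟨w, hw, hw0⟩ := Submodule.exists_mem_ne_zero_of_ne_bot h0
      have h3 := mem_E0t.1 (hD hw)
      have hx : w (Sum.inr 0) ≠ 0 := fun h => hw0 (ext4 h3.1 h3.2.1 h h3.2.2)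
      intro v hv
      rw [mem_E0t] at hv
      have e : v = (v (Sum.inr 0) * (w (Sum.inr 0))⁻¹) • w := by
        apply ext4 <;> simp [hv.1, hv.2.1, hv.2.2, h3.1, h3.2.1, h3.2.2, mul_assoc, inv_mul_cancel₀ hx]
      rw [e]
      exact Submodule.smul_mem _ _ hw
  · intro D hD hiso hDt
    refine le_antisymm ?_ hD
    intro v hv
    have hb := hD (b_mem_E (Fr := frame 2 F) (k := 0) (i := 0) le_rfl true)
    have h3 := hiso v hv _ hb
    rw [form4, e4] at h3
    simp at h3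
    have h4 := hiso v hv _ (hDt v hv)
    rw [form4, tL_apply] at h4
    simp [h3] at h4
    have h5 := hq (v (Sum.inr 1)) (v (Sum.inl 1)) (by linear_combination h4)
    exact mem_E0t.2 ⟨h3, h5.2, h5.1⟩

end ell

end Cfsg.Agent.H769.OZ
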