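import Cfsg.Agent.H769.OZ.BalW
import Cfsg.Agent.H769.OZ.SpComb
import Cfsg.Agent.H769.OZ.SpIso
import Cfsg.Agent.H985.VZ.RankTwo
import Cfsg.Agent.H631.VZ.Supp

/-!
# The row `PSp₄(q)`, `q ≥ 4`, `q ≠ 5` (helper769, S4842)

No irreducible character of `PSp₄(q)` vanishes on exactly one class: `V^U ≠ 0`, the torus character is fixed by the
Weyl group, hence `χ(1)` is `1`, `q⁴` or has a prime divisor of `q² + 1` (`arith`).
-/

set_option autoImplicit false
set_option linter.unusedSectionVars false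

namespace Cfsg.Agent.H769.OZ

open CoxeterSystem Cfsg Cfsg.Agent.Characters Cfsg.Agent.ChevalleyStructure.CoxeterGeom Cfsg.Agent.Tits.Roots
open Cfsg.Agent.Nodes.TypeC Cfsg.Agent.H604.OZ
open Cfsg.Agent.Nodes Cfsg.Agent.Nodes.Comb Cfsg.Agent.Nodes.Reps Cfsg.Agent.Nodes.WittRoot Cfsg.Agent.Nodes.BNOf
open Cfsg.Agent.Nodes.WittRGD Cfsg.Agent.Nodes.WittAll Cfsg.Agent.Nodes.LeviDec
open Cfsg.Agent.TitsThree Cfsg.Agent.TitsThree.Siegel Cfsg.Agent.TitsThree.WittFrame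
  Cfsg.Agent.TitsThree.WittWeyl Cfsg.Agent.TitsThree.FrameCN Cfsg.Agent.TitsThree.SpIdent
open Cfsg.Agent.H985.VZ Cfsg.Agent.ClassicalGeometry Cfsg.Agent.H631.VZ Cfsg.Agent.H686.CharKit

theorem compl_one : ({1}ᶜ : Set (Fin 2)) = {0} := by
  ext i
  fin_cases i <;> simp

theorem compl_zero : ({0}ᶜ : Set (Fin 2)) = {1} := by
  ext i
  fin_cases i <;> simp

/-- one of two non-conjugate elements is not a zero -/
theorem exists_ne_zero {G : Type*} [Group G] {χ : IrrCharacter G} {x : G} (h : H732.VZ.One χ x) {P : G → Prop}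
    (hP : ∃ t t' : G, ¬ IsConj t t' ∧ P t ∧ P t') : ∃ t, P t ∧ (χ : G → ℂ) t ≠ 0 := by
  obtain ⟨t, t', hc, h1, h2⟩ := hP
  by_cases h3 : (χ : G → ℂ) t = 0
  · refine ⟨t', h2, fun h4 => hc ((h.uniq t h3).symm.trans (h.uniq t' h4))⟩
  · exact ⟨t, h1, h3⟩

theorem yy_cases {I Y : Type*} [Fintype I] [DecidableEq I] [Group Y] {T : Subgroup Y} {n : I → Y}
    {X : (I → ℤ) → Subgroup Y} {l : T →* ℂˣ} {i : I} {y : ℂ} {q : ℕ} (h : YY X n l i y) (hn : n i ∈ Li X i)
    (hb : Bal X T n i) (hq : qq X i = q) : y = q ∨ y = (q : ℂ)⁻¹ ∨ y = 1 := by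
  by_cases ht : Triv X l i
  · rcases h.triv hn ht with h1 | h1
    · exact Or.inl (by rw [h1, hq])
    · exact Or.inr (Or.inl (by rw [h1, hq]))
  · exact Or.inr (Or.inr (h.bal hn hb ht))

/-- the order of a finite field is not six -/
theorem card_ne_six {F : Type*} [Field F] [Fintype F] : Fintype.card F ≠ 6 := by
  intro h
  obtain ⟨p, hp⟩ := CharP.exists F
  obtain ⟨a, hpp, ha⟩ := FiniteField.card F p
  rw [h] at ha
  have h2 : 2 ∣ p ^ (a : ℕ) := by rw [← ha]; norm_num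
  have h3 : 3 ∣ p ^ (a : ℕ) := by rw [← ha]; norm_num
  have h4 := (Nat.prime_dvd_prime_iff_eq Nat.prime_two hpp).1 (Nat.prime_two.dvd_of_dvd_pow h2)
  have h5 := (Nat.prime_dvd_prime_iff_eq Nat.prime_three hpp).1 (Nat.prime_three.dvd_of_dvd_pow h3)
  omega

/-- **The row `PSp₄(q)`, `4 ≤ q ≠ 5`.** -/
theorem row_psp4 (F : Type) [Field F] [Fintype F] (hq : 4 ≤ Fintype.card F) (hq5 : Fintype.card F ≠ 5)
    (_hs : IsSimpleGroup (PSp 2 F)) : H730.OZ.Row (PSp 2 F) := by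
  classical
  refine row_of fun χ x hx => ?_
  obtain ⟨N, ρ, hρ, hχ⟩ := χ.2
  obtain ⟨p, hp⟩ := CharP.exists F
  have hpp : Fact p.Prime := ⟨CharP.char_is_prime F p⟩
  have cs := (CoxeterMatrix.B 2).toCoxeterSystem
  have hA : AmbT (frame 2 F) p (KInstSp.model 2 F).I := AmbT.of_amb WittU.amb_Sp p
  have R := rgdC_model (KInstSp.model 2 F) hA (p0 := adm 1) one_ne_zero cs
  have hW : Finite (CoxeterMatrix.B 2).Group := finite_W cs
  have hG := GG_eq (F := F) 2 (by norm_num) cs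
  have hT := T_comm (F := F) 2
  -- elliptic elements
  obtain ⟨ta, hta, ha⟩ := exists_ne_zero hx (exists_S cs (p := p) (by rw [Nat.card_eq_fintype_card]; exact hq))
  have hq6 := card_ne_six (F := F)
  obtain ⟨tb, htb, hb⟩ := exists_ne_zero hx (exists_L cs (p := p) (by rw [Nat.card_eq_fintype_card]; omega))
  rw [compl_one] at hta
  rw [compl_zero] at htb
  rw [← hχ] at ha hb
  have h0 : VU cs (isCartan 2) (WittModel.X (KInstSp.model 2 F)) ρ ≠ ⊥ :=
    VU_ne_bot R hG hρ (a := 0) (b := 1) (rep_ne cs) (hta.toFree.fx_ne_bot R ha) (htb.toFree.fx_ne_bot R hb)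
  obtain ⟨l, hl, hla⟩ := exists_fix R hG hT hρ h0 hta ha
  obtain ⟨l', hl', hlb⟩ := exists_fix R hG hT hρ h0 htb hb
  obtain ⟨w, hw⟩ := exists_mv R hG hρ hl hl'
  have hlb' := fix_both hla hw hlb
  obtain ⟨-, -, ya, yb, hya, hyb, hd⟩ := rank_two R hG hT hρ (a := (0 : Fin 2)) (b := 1) (by decide)
    (fun i => by fin_cases i <;> simp) B2_zero_one (by norm_num) hl hla hlb' hta ha
  have qa : qq (WittModel.X (KInstSp.model 2 F)) (0 : Fin 2) = Fintype.card F := by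
    rw [qq_short (KInstSp.model 2 F) (i := 0) (j := 1) rfl hA, Nat.card_eq_fintype_card]
  have qb : qq (WittModel.X (KInstSp.model 2 F)) (1 : Fin 2) = Fintype.card F := by
    rw [qq_long (F := F) (p := p) (i := (1 : Fin 2)) (by norm_num) hA, Nat.card_eq_fintype_card]
  have ba := bal_short (KInstSp.model 2 F) (i := 0) (j := 1) rfl hA R (p0 := adm 1) rfl
  have bb := bal_long (F := F) (p := p) (i := (1 : Fin 2)) (cs := cs) (by norm_num) hA R rfl
  have ca := yy_cases hya (n_mem_Li hA 0) ba qa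
  have cb := yy_cases hyb (n_mem_Li hA 1) bb qb
  rw [qa, qb, hχ, ← charDegree_irr χ] at hd
  rcases arith (by omega) ca cb hd with h1 | h1 | h1
  · have := one_lt_deg hx
    omega
  · exact not_dvd_st hq hx (by rw [h1])
  · exact not_dvd_cox hq hx h1

end Cfsg.Agent.H769.OZ
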